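import Groth.Agent.Chevalley.Val.Closure
import Groth.Agent.GrpSchLib.RedSubgroup
import Groth.Agent.GrpSchLib.KernelGrp
import Groth.Agent.GrpSchLib.ImageFactor
import Groth.Agent.GrpQuotLib.Components
import Groth.Agent.S7982
import Groth.Agent.FpqcDescLib.Group
import Groth.Agent.LimChev.Main
import Mathlib.AlgebraicGeometry.ZariskisMainTheorem

/-!
The reduced identity component of an algebraic group, and properties of the group it detects.
-/

universe u

set_option backward.isDefEq.respectTransparency false
set_option linter.style.haveILetI false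

noncomputable section

open CategoryTheory CategoryTheory.Limits AlgebraicGeometry MonoidalCategory CartesianMonoidalCategory
open scoped MonObj

namespace Groth.Agent.Chevalley.BC

open Val (pp tr pt_tr)

theorem homeomorph_image_connectedComponent {X Y : Type*} [TopologicalSpace X] [TopologicalSpace Y] (e : X ≃ₜ Y)
    (x : X) : e '' connectedComponent x = connectedComponent (e x) := by
  rw [← connectedComponentIn_univ, ← connectedComponentIn_univ, e.image_connectedComponentIn (Set.mem_univ x),
    Set.image_univ, e.surjective.range_eq]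

variable {k : Type u} [Field k] [IsAlgClosed k] (K : Over (Spec (CommRingCat.of k))) [GrpObj K]
  [LocallyOfFiniteType K.hom] [QuasiCompact K.hom]

theorem smooth_connected_unit : Smooth (𝟙_ (Over (Spec (CommRingCat.of k)))).hom ∧
    ConnectedSpace (𝟙_ (Over (Spec (CommRingCat.of k)))).left :=
  ⟨inferInstanceAs (Smooth (𝟙 (Spec (CommRingCat.of k)))), inferInstanceAs (ConnectedSpace ↥(Spec (CommRingCat.of k)))⟩

/-- The reduced identity component. -/
theorem exists_comp : ∃ (N : Over (Spec (CommRingCat.of k))) (_ : GrpObj N) (c : N ⟶ K),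
    IsMonHom c ∧ IsClosedImmersion c.left ∧ Smooth N.hom ∧ QuasiCompact N.hom ∧ ConnectedSpace N.left ∧
      Set.range c.left = connectedComponent (pp η[K]) := by
  obtain ⟨R, _, r, hr, hrc, hR, hrs, hRl, hRq⟩ := GrpSchLib.RedSubgroup.exists_redSubgroup K
  haveI := hr; haveI := hrc; haveI := hR; haveI := hrs; haveI := hRl; haveI := hRq
  haveI : Smooth R.hom := GrpSchLib.smooth_of_perfectField_of_isReduced R
  obtain ⟨N, _, i, hi, hic, hif, hir, hgi, hNc⟩ := GrpSchLib.exists_identityComponent (G := R)
  haveI := hi; haveI := hic; haveI := hif; haveI := hgi; haveI := hNc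
  haveI : IsLocallyNoetherian R.left := LocallyOfFiniteType.isLocallyNoetherian R.hom
  haveI : IsOpenImmersion i.left := IsOpenImmersion.of_flat_of_mono i.left
  haveI : Smooth N.hom := by rw [← Over.w i]; infer_instance
  haveI : IrreducibleSpace N.left := GeometricallyIrreducible.irreducibleSpace_of_subsingleton N.hom
  refine ⟨N, inferInstance, i ≫ r, inferInstance, inferInstanceAs (IsClosedImmersion (i.left ≫ r.left)), inferInstance,
    (quasiCompact_iff_compactSpace _).mpr inferInstance, inferInstance, ?_⟩
  rw [Over.comp_left, Scheme.Hom.comp_base, TopCat.coe_comp, Set.range_comp, hir]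
  let e := r.left.isClosedEmbedding.toHomeomorphOfSurjective r.left.surjective
  rw [show pp η[K] = r.left (pp η[R]) by rw [← IsMonHom.one_hom r]; rfl]
  exact homeomorph_image_connectedComponent e (pp η[R])

/-- A reduced connected scheme through the unit maps to the identity component. -/
theorem exists_factor {N : Over (Spec (CommRingCat.of k))} {c : N ⟶ K} [IsClosedImmersion c.left]
    (hc : Set.range c.left = connectedComponent (pp η[K])) {D : Over (Spec (CommRingCat.of k))}
    [AlgebraicGeometry.IsReduced D.left] [ConnectedSpace D.left] (f : D ⟶ K) (d : D.left)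
    (hd : f.left d = pp η[K]) : ∃ g : D ⟶ N, g ≫ c = f := by
  have hsub : Set.range f.left ⊆ Set.range c.left := by
    rw [hc]
    exact (isPreconnected_range f.left.continuous).subset_connectedComponent ⟨d, hd⟩
  obtain ⟨g, hg⟩ := H23.RedSub.exists_lift_closed f.left c.left hsub
  exact ⟨Over.homMk g (by rw [← Over.w c, reassoc_of% hg, Over.w f]), Over.OverMorphism.ext hg⟩

/-- Finitely many translates of the identity component cover the group. -/
theorem exists_cover {N : Over (Spec (CommRingCat.of k))} (c : N ⟶ K)
    (hc : Set.range c.left = connectedComponent (pp η[K])) :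
    ∃ (D : Over (Spec (CommRingCat.of k))) (_ : IsFinite D.hom) (s : D ⟶ K),
      Surjective ((fst D N ≫ s) * (snd D N ≫ c)).left := by
  classical
  haveI := GrpSchLib.AntiAffine.isSeparated_grp K
  haveI : JacobsonSpace K.left := LocallyOfFiniteType.jacobsonSpace K.hom
  haveI : CompactSpace K.left := (quasiCompact_iff_compactSpace K.hom).mp inferInstance
  obtain ⟨T, hT⟩ := isCompact_univ.elim_finite_subcover (fun x : K.left => connectedComponent x)
    (fun x => (GrpQuotLib.grp_component x).2.2) fun x _ => Set.mem_iUnion.mpr ⟨x, mem_connectedComponent⟩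
  have hpt : ∀ x : K.left, ∃ a : 𝟙_ (Over (Spec (CommRingCat.of k))) ⟶ K, pp a ∈ connectedComponent x := fun x =>
    Val.exists_point (C := K) (U := ⟨connectedComponent x, (GrpQuotLib.grp_component x).2.2⟩) ⟨x, mem_connectedComponent⟩
  choose a ha using hpt
  let R : ↥T → CommRingCat.{u} := fun _ => CommRingCat.of k
  let D : Over (Spec (CommRingCat.of k)) := Over.mk (Spec.map (CommRingCat.ofHom (algebraMap k (↥T → k))))
  haveI : IsFinite D.hom := (IsFinite.SpecMap_iff _).mpr (RingHom.finite_algebraMap.mpr inferInstance)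
  let s : D ⟶ K := Over.homMk (inv (sigmaSpec R) ≫ Sigma.desc fun j => (a j.1).left) (by
    rw [Category.assoc, IsIso.inv_comp_eq]
    refine Sigma.hom_ext _ _ fun j => ?_
    rw [Sigma.ι_desc_assoc, ι_sigmaSpec_assoc, Over.w (a j.1)]
    show 𝟙 _ = Spec.map _ ≫ Spec.map _
    rw [← Spec.map_comp, ← Spec.map_id]
    rfl)
  let p : ∀ j, 𝟙_ (Over (Spec (CommRingCat.of k))) ⟶ D := fun j =>
    Over.homMk (Spec.map (CommRingCat.ofHom (Pi.evalRingHom (fun _ : ↥T => k) j))) (by
      show Spec.map _ ≫ Spec.map _ = 𝟙 _
      rw [← Spec.map_comp, ← Spec.map_id]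
      rfl)
  have hps : ∀ j, p j ≫ s = a j.1 := fun j => Over.OverMorphism.ext (by
    show Spec.map (CommRingCat.ofHom (Pi.evalRingHom (fun _ : ↥T => k) j)) ≫ inv (sigmaSpec R) ≫ _ = _
    rw [← ι_sigmaSpec R j, Category.assoc, IsIso.hom_inv_id_assoc, Sigma.ι_desc])
  refine ⟨D, inferInstance, s, ⟨fun x => ?_⟩⟩
  obtain ⟨i, hi, hxi⟩ := Set.mem_iUnion₂.mp (hT (Set.mem_univ x))
  let b := a i
  haveI : IsIso (GrpSchLib.HomFinite.trans b).hom.left := ((Over.forget _).mapIso (GrpSchLib.HomFinite.trans b)).isIso_hom
  have hb : (GrpSchLib.HomFinite.trans b).hom.left '' connectedComponent (pp η[K]) = connectedComponent i := by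
    rw [connectedComponent_eq (ha i)]
    have h1 : (GrpSchLib.HomFinite.trans b).hom.left (pp η[K]) = pp b := by
      show (η[K] ≫ (GrpSchLib.HomFinite.trans b).hom).left _ = pp b
      refine congrArg (fun f : 𝟙_ (Over (Spec (CommRingCat.of k))) ⟶ K => f.left (IsLocalRing.closedPoint k)) ?_
      rw [show η[K] = (1 : 𝟙_ _ ⟶ K) from MonObj.one_eq_one (M := K)]
      show (1 : 𝟙_ _ ⟶ K) ≫ ((toUnit K ≫ b) * 𝟙 K) = b
      rw [MonObj.comp_mul, Category.comp_id, _root_.mul_one, ← Category.assoc,
        toUnit_unique (_ ≫ toUnit K) (𝟙 _), Category.id_comp]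
    rw [← h1]
    exact homeomorph_image_connectedComponent (GrpSchLib.HomFinite.trans b).hom.left.homeomorph (pp η[K])
  obtain ⟨z, hz, rfl⟩ := (hb.symm ▸ hxi : x ∈ (GrpSchLib.HomFinite.trans b).hom.left '' connectedComponent (pp η[K]))
  obtain ⟨y, rfl⟩ := (hc.symm ▸ hz : z ∈ Set.range c.left)
  let l : N ⟶ D ⊗ N := lift (toUnit N ≫ p ⟨i, hi⟩) (𝟙 N)
  refine ⟨l.left y, ?_⟩
  rw [← Scheme.Hom.comp_apply, ← Over.comp_left, ← Scheme.Hom.comp_apply, ← Over.comp_left]
  refine congrArg (fun f : N ⟶ K => f.left y) ?_
  show l ≫ _ = c ≫ ((toUnit K ≫ b) * 𝟙 K)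
  simp only [l, MonObj.comp_mul, lift_fst_assoc, lift_snd_assoc, Category.id_comp, Category.comp_id]
  rw [Category.assoc, hps, ← Category.assoc c, comp_toUnit]

variable {K} in
theorem isProper_of_comp {N : Over (Spec (CommRingCat.of k))} (c : N ⟶ K)
    (hc : Set.range c.left = connectedComponent (pp η[K])) [IsProper N.hom] : IsProper K.hom := by
  obtain ⟨D, _, s, hm⟩ := exists_cover K c hc
  let m := (fst D N ≫ s) * (snd D N ≫ c)
  haveI : Surjective m.left := hm
  haveI : IsProper (D ⊗ N).hom := inferInstanceAs (IsProper (pullback.fst D.hom N.hom ≫ D.hom))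
  haveI := GrpSchLib.AntiAffine.isSeparated_grp K
  haveI : UniversallyClosed K.hom := by
    haveI : UniversallyClosed (m.left ≫ K.hom) := by rw [Over.w m]; infer_instance
    exact UniversallyClosed.of_comp_surjective m.left K.hom
  exact {}

variable {K} in
theorem isFinite_of_comp {N : Over (Spec (CommRingCat.of k))} (c : N ⟶ K)
    (hc : Set.range c.left = connectedComponent (pp η[K])) [IsFinite N.hom] : IsFinite K.hom := by
  obtain ⟨D, _, s, hm⟩ := exists_cover K c hc
  let m := (fst D N ≫ s) * (snd D N ≫ c)
  haveI : Surjective m.left := hm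
  haveI := isProper_of_comp c hc
  haveI : IsFinite (D ⊗ N).hom := inferInstanceAs (IsFinite (pullback.fst D.hom N.hom ≫ D.hom))
  haveI : LocallyQuasiFinite K.hom := by
    refine LocallyQuasiFinite.of_finite_preimage_singleton K.hom fun y => ?_
    haveI : Subsingleton ↥(Spec (CommRingCat.of k)) := inferInstanceAs (Subsingleton (PrimeSpectrum k))
    refine (Set.Finite.image m.left ((D ⊗ N).hom.finite_preimage_singleton y)).subset fun x _ => ?_
    obtain ⟨z, rfl⟩ := m.left.surjective x
    exact ⟨z, Subsingleton.elim _ _, rfl⟩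
  exact (IsFinite.iff_isProper_and_locallyQuasiFinite K.hom).mpr ⟨inferInstance, inferInstance⟩

/-- The group is finite when its reduced identity component is trivial. -/
theorem isFinite_of_isIso {N : Over (Spec (CommRingCat.of k))} [GrpObj N] (c : N ⟶ K)
    (hc : Set.range c.left = connectedComponent (pp η[K])) (h : IsIso η[N]) : IsFinite K.hom := by
  haveI : IsIso η[N].left := ((Over.forget _).mapIso (asIso η[N])).isIso_hom
  haveI : IsFinite N.hom := by
    rw [show N.hom = inv η[N].left from (IsIso.eq_inv_of_hom_inv_id (Over.w η[N]))]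
    infer_instance
  exact isFinite_of_comp c hc

variable {K} in
/-- A group is affine when its reduced identity component is. -/
theorem isAffine_of_comp {N : Over (Spec (CommRingCat.of k))} (c : N ⟶ K) [IsClosedImmersion c.left]
    (hc : Set.range c.left = connectedComponent (pp η[K])) [IsAffine N.left] : IsAffine K.left := by
  obtain ⟨D, _, s, hm⟩ := exists_cover K c hc
  let m := (fst D N ≫ s) * (snd D N ≫ c)
  haveI : Surjective m.left := hm
  let sh : D ⊗ K ≅ D ⊗ K :=
    { hom := lift (fst D K) ((fst D K ≫ s) * snd D K)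
      inv := lift (fst D K) ((fst D K ≫ s)⁻¹ * snd D K)
      hom_inv_id := by
        apply CartesianMonoidalCategory.hom_ext
        · simp
        · simp [MonObj.comp_mul, GrpObj.comp_inv]
      inv_hom_id := by
        apply CartesianMonoidalCategory.hom_ext
        · simp
        · simp [MonObj.comp_mul, GrpObj.comp_inv] }
  have hfac : m = lift (fst D N) (snd D N ≫ c) ≫ sh.hom ≫ snd D K := by
    simp [m, sh, MonObj.comp_mul]
  haveI : IsIso sh.hom.left := ((Over.forget _).mapIso sh).isIso_hom
  haveI : UniversallyClosed (snd D K).left := inferInstanceAs (UniversallyClosed (pullback.snd D.hom K.hom))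
  haveI : IsClosedImmersion (lift (fst D N) (snd D N ≫ c)).left := by
    rw [show lift (fst D N) (snd D N ≫ c) = D ◁ c from
      CartesianMonoidalCategory.hom_ext _ _ (by simp) (by simp)]
    exact MorphismProperty.of_isPullback (P := @IsClosedImmersion)
      ((FpqcDescLib.isPullback_whiskerLeft c D).map (Over.forget _)).flip ‹_›
  haveI : UniversallyClosed m.left := by
    rw [hfac, Over.comp_left, Over.comp_left]; infer_instance
  haveI : IsAffine D.left := isAffine_of_isAffineHom D.hom
  haveI : IsAffine (D ⊗ N).left := inferInstanceAs (IsAffine (pullback D.hom N.hom))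
  exact LimChev.isAffine_of_surjective m.left

end Groth.Agent.Chevalley.BC
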