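import Mathlib.AlgebraicGeometry.IdealSheaf.Functorial
import Mathlib.AlgebraicGeometry.Morphisms.Flat
import Mathlib.AlgebraicGeometry.Noetherian
import Mathlib.FieldTheory.IntermediateField.Adjoin.Algebra
import Mathlib.FieldTheory.IntermediateField.Adjoin.Basic
import Mathlib.FieldTheory.PurelyInseparable.Basic

/-!
Closed subschemes of a base change to an algebraic extension are defined at a finite level.
-/

set_option autoImplicit false
set_option backward.isDefEq.respectTransparency false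
universe u
open CategoryTheory CategoryTheory.Limits AlgebraicGeometry

namespace Groth.Agent.Chevalley.BC

/-- Sections over an affine open of a base change are generated by the two pullbacks. -/
theorem mem_of_pullback_sections {X S T : Scheme.{u}} [IsAffine S] [IsAffine T] (iX : X ⟶ S) (f : T ⟶ S)
    (U : X.affineOpens) (A : Subring Γ(pullback iX f, pullback.fst iX f ⁻¹ᵁ U.1))
    (h1 : ∀ a, (pullback.fst iX f).app U.1 a ∈ A)
    (h2 : ∀ c, (pullback.snd iX f).appLE ⊤ (pullback.fst iX f ⁻¹ᵁ U.1) le_top c ∈ A)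
    (x : Γ(pullback iX f, pullback.fst iX f ⁻¹ᵁ U.1)) : x ∈ A := by
  let H := IsPullback.of_hasPullback iX f
  have hUY : pullback.fst iX f ⁻¹ᵁ U.1 = pullback.fst iX f ⁻¹ᵁ U.1 ⊓ pullback.snd iX f ⁻¹ᵁ ⊤ := by simp
  have hiso := isIso_pushoutSection_of_isAffineOpen H (US := ⊤) (UT := ⊤) (UX := U.1) le_top le_top hUY
    (isAffineOpen_top S) (isAffineOpen_top T) U.2
  have hpo := (isIso_pushoutSection_iff H le_top le_top hUY).1 hiso
  algebraize [(iX.appLE ⊤ U.1 le_top).hom, (f.appLE ⊤ ⊤ le_top).hom]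
  let e := ((CommRingCat.isPushout_tensorProduct Γ(S, ⊤) Γ(X, U.1) Γ(T, ⊤)).isoIsPushout _ _ hpo)
  obtain ⟨t, rfl⟩ := (ConcreteCategory.bijective_of_isIso e.hom).2 x
  have hl : ∀ a : Γ(X, U.1), e.hom (a ⊗ₜ[Γ(S, ⊤)] (1 : Γ(T, ⊤))) = (pullback.fst iX f).app U.1 a := fun a => by
    have h := (CommRingCat.isPushout_tensorProduct Γ(S, ⊤) Γ(X, U.1) Γ(T, ⊤)).inl_isoIsPushout_hom _ _ hpo
    have h' := ConcreteCategory.congr_hom h a
    rw [Scheme.Hom.app_eq_appLE]
    exact h'
  have hr : ∀ c : Γ(T, ⊤), e.hom ((1 : Γ(X, U.1)) ⊗ₜ[Γ(S, ⊤)] c) =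
      (pullback.snd iX f).appLE ⊤ (pullback.fst iX f ⁻¹ᵁ U.1) le_top c := fun c =>
    ConcreteCategory.congr_hom
      ((CommRingCat.isPushout_tensorProduct Γ(S, ⊤) Γ(X, U.1) Γ(T, ⊤)).inr_isoIsPushout_hom _ _ hpo) c
  induction t using TensorProduct.induction_on with
  | zero => rw [map_zero]; exact A.zero_mem
  | tmul a c =>
    have : a ⊗ₜ[Γ(S, ⊤)] c = (a ⊗ₜ[Γ(S, ⊤)] (1 : Γ(T, ⊤))) * ((1 : Γ(X, U.1)) ⊗ₜ[Γ(S, ⊤)] c) := by
      rw [Algebra.TensorProduct.tmul_mul_tmul, mul_one, one_mul]
    rw [this, map_mul, hl, hr]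
    exact A.mul_mem (h1 a) (h2 c)
  | add y z hy hz => rw [map_add]; exact A.add_mem hy hz

section

variable {k K : Type u} [Field k] [Field K] [Algebra k K]

/-- The projection of a base change to a finite level. -/
noncomputable def levelMap {X : Scheme.{u}} (f : X ⟶ Spec (CommRingCat.of k)) (F : IntermediateField k K) :
    pullback f (Spec.map (CommRingCat.ofHom (algebraMap k K))) ⟶
      pullback f (Spec.map (CommRingCat.ofHom (algebraMap k F))) :=
  pullback.lift (pullback.fst _ _) (pullback.snd _ _ ≫ Spec.map (CommRingCat.ofHom (algebraMap F K))) (by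
    rw [Category.assoc, ← Spec.map_comp, ← CommRingCat.ofHom_comp, ← IsScalarTower.algebraMap_eq]
    exact pullback.condition)

theorem isPullback_levelMap {X : Scheme.{u}} (f : X ⟶ Spec (CommRingCat.of k)) (F : IntermediateField k K) :
    IsPullback (levelMap f F) (pullback.snd f (Spec.map (CommRingCat.ofHom (algebraMap k K))))
      (pullback.snd f (Spec.map (CommRingCat.ofHom (algebraMap k F))))
      (Spec.map (CommRingCat.ofHom (algebraMap F K))) := by
  refine IsPullback.of_right ?_ (pullback.lift_snd _ _ _) (IsPullback.of_hasPullback f _)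
  convert IsPullback.of_hasPullback f (Spec.map (CommRingCat.ofHom (algebraMap k K))) using 1
  · exact pullback.lift_fst _ _ _
  · rw [← Spec.map_comp, ← CommRingCat.ofHom_comp, ← IsScalarTower.algebraMap_eq]

/-- A closed subscheme of a base change to an algebraic extension is defined at a finite level. -/
theorem exists_level [Algebra.IsAlgebraic k K] {X Z : Scheme.{u}} (f : X ⟶ Spec (CommRingCat.of k))
    [LocallyOfFiniteType f] [QuasiCompact f]
    (z : Z ⟶ pullback f (Spec.map (CommRingCat.ofHom (algebraMap k K)))) [IsClosedImmersion z] :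
    ∃ (F₁ : IntermediateField k K), FiniteDimensional k F₁ ∧ ∀ F : IntermediateField k K, F₁ ≤ F →
      ∃ (Z₀ : Scheme.{u}) (z₀ : Z₀ ⟶ pullback f (Spec.map (CommRingCat.ofHom (algebraMap k F))))
        (e : Z ⟶ Z₀), IsClosedImmersion z₀ ∧ IsPullback e z z₀ (levelMap f F) := by
  classical
  let φ := Spec.map (CommRingCat.ofHom (algebraMap k K))
  haveI : IsLocallyNoetherian (pullback f φ) := LocallyOfFiniteType.isLocallyNoetherian (pullback.snd f φ)
  haveI : CompactSpace X := QuasiCompact.compactSpace_of_compactSpace f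
  obtain ⟨t, ht⟩ := isCompact_univ.elim_finite_subcover (fun U : X.affineOpens => (U.1 : Set X))
    (fun U => U.1.2) (fun x _ => by
      have := (TopologicalSpace.Opens.mem_top x : x ∈ (⊤ : X.Opens))
      rw [← iSup_affineOpens_eq_top X, TopologicalSpace.Opens.mem_iSup] at this
      obtain ⟨U, hU⟩ := this
      exact Set.mem_iUnion.mpr ⟨U, hU⟩)
  haveI : IsAffineHom φ := inferInstance
  haveI : IsAffineHom (pullback.fst f φ) := MorphismProperty.pullback_fst f φ ‹_›
  let W : X.affineOpens → (pullback f φ).affineOpens := fun U =>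
    ⟨pullback.fst f φ ⁻¹ᵁ U.1, U.2.preimage _⟩
  have hgen : ∀ U : X.affineOpens, (z.ker.ideal (W U)).FG := fun U => by
    haveI := IsLocallyNoetherian.component_noetherian (X := pullback f φ) (W U)
    exact IsNoetherian.noetherian _
  choose s hs using hgen
  have hlev : ∀ (U : X.affineOpens) (x : Γ(pullback f φ, pullback.fst f φ ⁻¹ᵁ U.1)),
      ∃ F : IntermediateField k K, FiniteDimensional k F ∧ ∀ F' : IntermediateField k K, F ≤ F' →
        ∃ (y : Γ(pullback f (Spec.map (CommRingCat.ofHom (algebraMap k F'))),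
            pullback.fst f (Spec.map (CommRingCat.ofHom (algebraMap k F'))) ⁻¹ᵁ U.1)),
          (levelMap f F').appLE _ _ (by rw [← Scheme.Hom.comp_preimage, levelMap, pullback.lift_fst]) y = x := by
    intro U x
    let P : Γ(pullback f φ, pullback.fst f φ ⁻¹ᵁ U.1) → Prop := fun x =>
      ∃ F : IntermediateField k K, FiniteDimensional k F ∧ ∀ F' : IntermediateField k K, F ≤ F' →
        ∃ (y : Γ(pullback f (Spec.map (CommRingCat.ofHom (algebraMap k F'))),
            pullback.fst f (Spec.map (CommRingCat.ofHom (algebraMap k F'))) ⁻¹ᵁ U.1)),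
          (levelMap f F').appLE _ _ (by rw [← Scheme.Hom.comp_preimage, levelMap, pullback.lift_fst]) y = x
    let A : Subring Γ(pullback f φ, pullback.fst f φ ⁻¹ᵁ U.1) :=
      { carrier := {x | P x}
        zero_mem' := ⟨⊥, inferInstance, fun _ _ => ⟨0, map_zero _⟩⟩
        one_mem' := ⟨⊥, inferInstance, fun _ _ => ⟨1, map_one _⟩⟩
        neg_mem' := fun ⟨F, hF, h⟩ => ⟨F, hF, fun F' hF' => by
          obtain ⟨y, hy⟩ := h F' hF'
          exact ⟨-y, by rw [map_neg, hy]⟩⟩
        add_mem' := fun ⟨F, hF, h⟩ ⟨G, hG, h'⟩ => ⟨F ⊔ G, by haveI := hF; haveI := hG; infer_instance,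
          fun F' hF' => by
            obtain ⟨y, hy⟩ := h F' (le_sup_left.trans hF')
            obtain ⟨y', hy'⟩ := h' F' (le_sup_right.trans hF')
            exact ⟨y + y', by rw [map_add, hy, hy']⟩⟩
        mul_mem' := fun ⟨F, hF, h⟩ ⟨G, hG, h'⟩ => ⟨F ⊔ G, by haveI := hF; haveI := hG; infer_instance,
          fun F' hF' => by
            obtain ⟨y, hy⟩ := h F' (le_sup_left.trans hF')
            obtain ⟨y', hy'⟩ := h' F' (le_sup_right.trans hF')
            exact ⟨y * y', by rw [map_mul, hy, hy']⟩⟩ }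
    refine mem_of_pullback_sections f φ U A ?_ ?_ x
    · intro a
      refine ⟨⊥, inferInstance, fun F' _ => ⟨(pullback.fst f _).app U.1 a, ?_⟩⟩
      rw [Scheme.Hom.app_eq_appLE, Scheme.Hom.app_eq_appLE, ← CommRingCat.comp_apply, Scheme.Hom.appLE_comp_appLE]
      simp only [levelMap, pullback.lift_fst]
      rfl
    · intro c
      obtain ⟨a, rfl⟩ := (ConcreteCategory.bijective_of_isIso (Scheme.ΓSpecIso (CommRingCat.of K)).inv).2 c
      haveI := IntermediateField.adjoin.finiteDimensional (K := k) (Algebra.IsIntegral.isIntegral a)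
      refine ⟨IntermediateField.adjoin k {a}, inferInstance, fun F' hF' =>
        ⟨(pullback.snd f _).appLE ⊤ _ le_top ((Scheme.ΓSpecIso (CommRingCat.of F')).inv
          ⟨a, hF' (IntermediateField.mem_adjoin_simple_self k a)⟩), ?_⟩⟩
      rw [← CommRingCat.comp_apply, Scheme.Hom.appLE_comp_appLE]
      simp only [levelMap, pullback.lift_snd]
      rw [Scheme.Hom.comp_appLE, CommRingCat.comp_apply]
      congr 1
      have h := ConcreteCategory.congr_hom
        (Scheme.ΓSpecIso_inv_naturality (CommRingCat.ofHom (algebraMap F' K)))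
        ⟨a, hF' (IntermediateField.mem_adjoin_simple_self k a)⟩
      exact h.symm
  choose F hFfin hF using hlev
  let F₁ : IntermediateField k K := t.sup fun U => (s U).sup fun x => F U x
  refine ⟨F₁, ?_, fun F₀ hF₀ => ?_⟩
  ·
    refine Finset.sup_induction (p := fun F : IntermediateField k K => FiniteDimensional k F) inferInstance
      (fun a ha b hb => by haveI := ha; haveI := hb; infer_instance) (fun U _ => ?_)
    exact Finset.sup_induction (p := fun F : IntermediateField k K => FiniteDimensional k F) inferInstance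
      (fun a ha b hb => by haveI := ha; haveI := hb; infer_instance) (fun x _ => hFfin U x)
  let φ₀ := Spec.map (CommRingCat.ofHom (algebraMap k F₀))
  let π := levelMap f F₀
  haveI : IsAffineHom φ₀ := inferInstance
  haveI : IsAffineHom (pullback.fst f φ₀) := MorphismProperty.pullback_fst f φ₀ ‹_›
  haveI : IsAffineHom π := MorphismProperty.of_isPullback (P := @IsAffineHom) (isPullback_levelMap f F₀).flip
    inferInstance
  let g := z ≫ π
  haveI : QuasiCompact g := inferInstance
  have h1 : g.ker.comap π ≤ z.ker := by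
    rw [← Scheme.IdealSheafData.le_map_iff_comap_le, ← Scheme.IdealSheafData.map_ker]
  have h2 : z.ker ≤ g.ker.comap π := by
    refine Scheme.IdealSheafData.le_of_iSup_eq_top (fun U : t => W U.1) (by
      refine TopologicalSpace.Opens.ext (Set.eq_univ_of_forall fun y => ?_)
      obtain ⟨U, hUt, hy⟩ := Set.mem_iUnion₂.mp (ht (Set.mem_univ (pullback.fst f φ y)))
      rw [TopologicalSpace.Opens.coe_iSup, Set.mem_iUnion]
      exact ⟨⟨U, hUt⟩, hy⟩) ?_
    rintro ⟨U, hUt⟩
    rw [← hs U, Ideal.span_le]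
    intro x hx
    have hle : F U x ≤ F₀ := le_trans (le_trans (Finset.le_sup (f := fun x => F U x) hx)
      (Finset.le_sup (f := fun U => (s U).sup fun x => F U x) hUt)) hF₀
    obtain ⟨y, hy⟩ := hF U x F₀ hle
    let U₀ : (pullback f φ₀).affineOpens := ⟨pullback.fst f φ₀ ⁻¹ᵁ U.1, U.2.preimage _⟩
    have hV : (W U).1 = π ⁻¹ᵁ U₀.1 := by
      show pullback.fst f φ ⁻¹ᵁ U.1 = (levelMap f F₀ ≫ pullback.fst f φ₀) ⁻¹ᵁ U.1
      rw [levelMap, pullback.lift_fst]
    have hx0 : x ∈ z.ker.ideal (W U) := hs U ▸ Ideal.subset_span hx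
    rw [Scheme.Hom.ker_apply, RingHom.mem_ker, ← hy, Scheme.Hom.app_eq_appLE, ← CommRingCat.comp_apply,
      Scheme.Hom.appLE_comp_appLE] at hx0
    have hres : ∀ (V : Z.Opens) (hV₁ : V ≤ g ⁻¹ᵁ U₀.1), V = g ⁻¹ᵁ U₀.1 → g.appLE U₀.1 V hV₁ y = 0 →
        g.app U₀.1 y = 0 := by
      rintro V hV₁ rfl h
      rw [Scheme.Hom.app_eq_appLE]
      exact h
    have hy0 : y ∈ g.ker.ideal U₀ := by
      rw [Scheme.Hom.ker_apply, RingHom.mem_ker]
      exact hres (z ⁻¹ᵁ (W U).1) _ (by rw [hV]; rfl) hx0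
    have hmem : ∀ (V : (pullback f φ).affineOpens) (hV₁ : V.1 ≤ π ⁻¹ᵁ U₀.1), V.1 = π ⁻¹ᵁ U₀.1 →
        π.appLE U₀.1 V.1 hV₁ y ∈ (g.ker.comap π).ideal V := by
      rintro ⟨V, hVa⟩ hV₁ hV₂
      obtain rfl : V = π ⁻¹ᵁ U₀.1 := hV₂
      have hy1 := Scheme.IdealSheafData.le_map_comap (J := g.ker) (f := π) U₀ hy0
      rw [Scheme.IdealSheafData.ideal_map_of_isAffineHom, Ideal.mem_comap, Scheme.Hom.app_eq_appLE] at hy1
      exact hy1
    rw [SetLike.mem_coe, ← hy]
    exact hmem (W U) _ hV
  exact ⟨g.image, g.imageι, g.toImage, inferInstance,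
    (isPullback_of_isClosedImmersion z g.imageι g.toImage π g.toImage_imageι.symm (by rw [Scheme.IdealSheafData.ker_subschemeι]; exact le_antisymm h1 h2)).flip⟩

end

end Groth.Agent.Chevalley.BC
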