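import Groth.Agent.Chevalley.BC.Perfect
import Groth.Agent.GrpSchLib.AntiAffineRosenlicht
import Groth.Agent.S3280

/-!
Consequences of the theorem of Barsotti and Chevalley.
-/

universe u

set_option backward.isDefEq.respectTransparency false
set_option linter.style.haveILetI false
set_option maxHeartbeats 1000000
set_option synthInstance.maxHeartbeats 200000

noncomputable section

open CategoryTheory CategoryTheory.Limits AlgebraicGeometry MonoidalCategory CartesianMonoidalCategory
open scoped MonObj

namespace Groth.Agent.Chevalley.BC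

variable {k : Type u} [Field k]

/-- An affine proper smooth connected group is trivial. -/
theorem id_eq_one_of_affine_proper (R : Over (Spec (CommRingCat.of k))) [GrpObj R] [IsAffine R.left] [IsProper R.hom]
    [Smooth R.hom] [ConnectedSpace R.left] : 𝟙 R = (1 : R ⟶ R) :=
  GrpSchLib.AffToProper.hom_eq_one (𝟙 R)

/-- Properness passes to images. -/
theorem isProper_of_surjective {X Y : Over (Spec (CommRingCat.of k))} (f : X ⟶ Y) [IsProper X.hom] [Surjective f.left]
    [LocallyOfFiniteType Y.hom] [IsSeparated Y.hom] : IsProper Y.hom := by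
  haveI : UniversallyClosed (f.left ≫ Y.hom) := by rw [Over.w f]; infer_instance
  haveI : UniversallyClosed Y.hom := UniversallyClosed.of_comp_surjective f.left Y.hom
  exact {}

/-- A normal subgroup whose quotient map is trivial is everything. -/
theorem surjective_of_quot_eq_one {G B C : Over (Spec (CommRingCat.of k))} [GrpObj G] [GrpObj C] (b : B ⟶ G) (r : G ⟶ C)
    (hk : AlgGrp.IsKernel b r) (hr : r = 1) : Surjective b.left := by
  let s := hk.lift (𝟙 G) (toUnit G) (by rw [hr, MonObj.comp_one]; rfl)
  haveI : Surjective (s.left ≫ b.left) := by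
    rw [← Over.comp_left, show s ≫ b = 𝟙 G from hk.lift_fst _ _ _, Over.id_left]; infer_instance
  exact Surjective.of_comp s.left b.left

section Quot

variable [PerfectField k] {G N : Over (Spec (CommRingCat.of k))} [GrpObj G] [GrpObj N] [Smooth G.hom] [QuasiCompact G.hom]
  [ConnectedSpace G.left] (i : N ⟶ G) [IsMonHom i] [IsClosedImmersion i.left] [Smooth N.hom] [ConnectedSpace N.left]
  [IsAffine N.left]
  (hNmax : ∀ (N' : Over (Spec (CommRingCat.of k))) [GrpObj N'] (i' : N' ⟶ G) [IsMonHom i'] [IsClosedImmersion i'.left]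
    [Smooth N'.hom] [ConnectedSpace ↥N'.left] [IsAffine N'.left], AlgGrp.IsNormalHom i' → ∃ f : N' ⟶ N, f ≫ i = i')

include hNmax in
/-- The quotient by the largest affine normal subgroup is an abelian variety. -/
theorem exists_quot_of_max :
    ∃ (Q : Over (Spec (CommRingCat.of k))) (_ : GrpObj Q) (q : G ⟶ Q), IsMonHom q ∧ Surjective q.left ∧ Flat q.left ∧
      AlgGrp.IsKernel i q ∧ IsProper Q.hom ∧ Smooth Q.hom ∧ ConnectedSpace Q.left := by
  obtain ⟨L, _, l, Q, _, q, hl, hq, hqs, hqf, hk, hQp, hQs, hQc⟩ := exists_chevalley_perfect G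
  haveI := hl.hom; haveI := hl.closed; haveI := hl.smooth; haveI := hl.conn
  haveI : IsAffine L.left := hl.prop
  haveI := hq; haveI := hQp
  haveI : Mono i := Over.mono_of_mono_left _
  haveI : Mono l := Over.mono_of_mono_left _
  obtain ⟨a, ha⟩ := factor_of_affine hk i
  obtain ⟨b, hb⟩ := hNmax L l hl.normal
  let e : L ≅ N := ⟨b, a, by rw [← cancel_mono l, Category.assoc, ha, hb, Category.id_comp],
    by rw [← cancel_mono i, Category.assoc, hb, ha, Category.id_comp]⟩
  refine ⟨Q, inferInstance, q, hq, hqs, hqf, ?_, hQp, hQs, hQc⟩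
  exact hk.of_iso e (Iso.refl _) (Iso.refl _) (Iso.refl _) (by simp [e, hb]) (by simpa using toUnit_unique _ _) (by simp)
    (by simp)

include hNmax in
/-- Every smooth connected affine group maps into the affine part. -/
theorem factor_max {H : Over (Spec (CommRingCat.of k))} [GrpObj H] [Smooth H.hom] [ConnectedSpace H.left]
    [IsAffine H.left] (h : H ⟶ G) [IsMonHom h] : ∃ f : H ⟶ N, f ≫ i = h := by
  obtain ⟨Q, _, q, hq, -, -, hk, hQp, -, -⟩ := exists_quot_of_max i hNmax
  haveI := hq; haveI := hQp
  exact factor_of_affine hk h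

end Quot

/-- A normal subgroup with proper quotient surjects onto affine quotients. -/
theorem surjective_comp_affine {G N Q I : Over (Spec (CommRingCat.of k))} [GrpObj G] [GrpObj N] [GrpObj Q] [GrpObj I]
    [Smooth G.hom] [QuasiCompact G.hom] [ConnectedSpace G.left] (i : N ⟶ G) [IsMonHom i] [IsClosedImmersion i.left]
    (hN : AlgGrp.IsNormalHom i) (q : G ⟶ Q) [IsMonHom q] [Flat q.left] [Surjective q.left] [IsProper Q.hom]
    (hk : AlgGrp.IsKernel i q) (p : G ⟶ I) [IsMonHom p] [IsAffine I.left] [LocallyOfFiniteType I.hom]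
    [QuasiCompact I.hom] [Flat p.left] [Surjective p.left] : Surjective (i ≫ p).left := by
  haveI : LocallyOfFiniteType N.hom := by rw [← Over.w i]; infer_instance
  haveI : QuasiCompact N.hom := by rw [← Over.w i]; infer_instance
  haveI : Smooth I.hom := GrpSchLib.smooth_of_quotient p
  haveI : ConnectedSpace I.left := p.left.surjective.connectedSpace p.left.continuous
  obtain ⟨B, _, p₁, b, _, hb, hpb, hbc, hp1f, hp1s, hBl, hBq⟩ := GrpSchLib.ImageFactor.exists_image (i ≫ p)
  haveI := hb; haveI := hbc; haveI := hp1f; haveI := hp1s; haveI := hBl; haveI := hBq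
  haveI : Mono b := Over.mono_of_mono_left _
  have hBn : AlgGrp.IsNormalHom b := LargeNormal.isNormalHom_image (GrpSchLib.NilpQuot.cover_of_lft p) hN
    (GrpSchLib.NilpQuot.cover_of_lft p₁) hpb
  obtain ⟨R, _, r, hr, hrf, hrs, hrl, hRl, -, hrk⟩ := GrpQuotLib.exists_quotientGrp b hBn
  haveI := hr; haveI := hrf; haveI := hrs; haveI := hrl; haveI := hRl
  obtain ⟨-, hRq, -⟩ := GrpQuotLib.props_of_cover ⟨hrf, hrs, hrl⟩
  haveI : QuasiCompact R.hom := hRq inferInstance
  haveI := GrpSchLib.AntiAffine.isSeparated_grp R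
  haveI : IsAffine R.left := GrpSchLib.isAffine_of_quotient r
  haveI : Smooth R.hom := GrpSchLib.smooth_of_quotient r
  haveI : ConnectedSpace R.left := r.left.surjective.connectedSpace r.left.continuous
  obtain ⟨u, _, hu, -⟩ := S3280.result k G N Q R q i hk (p ≫ r) (by
    rw [← Category.assoc, ← hpb, Category.assoc, hrk.w, ← Category.assoc, comp_toUnit])
  haveI : Surjective (q.left ≫ u.left) := by
    rw [← Over.comp_left, hu]; exact inferInstanceAs (Surjective (p.left ≫ r.left))
  haveI : Surjective u.left := Surjective.of_comp q.left u.left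
  haveI := isProper_of_surjective u
  have hr1 : r = 1 := by rw [← Category.comp_id r, id_eq_one_of_affine_proper R, MonObj.comp_one]
  haveI := surjective_of_quot_eq_one b r hrk hr1
  rw [← hpb]
  exact inferInstanceAs (Surjective (p₁.left ≫ b.left))

/-- Lifts of the fibre product witnessing surjectivity of a product. -/
theorem surjective_mul_of_kernel {G N Z I : Over (Spec (CommRingCat.of k))} [GrpObj G] [GrpObj I] (i : N ⟶ G)
    (p : G ⟶ I) [IsMonHom p] [Surjective (i ≫ p).left] (j : Z ⟶ G) (hk : AlgGrp.IsKernel j p) :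
    Surjective ((j ⊗ₘ i) ≫ μ[G]).left := by
  let P : Over (Spec (CommRingCat.of k)) := Over.mk (pullback.fst p.left (i ≫ p).left ≫ G.hom)
  let x : P ⟶ G := Over.homMk (pullback.fst p.left (i ≫ p).left) rfl
  let y : P ⟶ N := Over.homMk (pullback.snd p.left (i ≫ p).left) (by
    show _ = pullback.fst p.left (i ≫ p).left ≫ G.hom
    rw [← Over.w p, pullback.condition_assoc, Over.w (i ≫ p)])
  have hxy : x ≫ p = y ≫ i ≫ p := Over.OverMorphism.ext pullback.condition
  let z := hk.lift (x * (y ≫ i)⁻¹) (toUnit P) (by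
    rw [MonObj.mul_comp, GrpObj.inv_comp, Category.assoc, hxy, mul_inv_cancel, Hom.one_def])
  have hz : lift z y ≫ (j ⊗ₘ i) ≫ μ[G] = x := by
    rw [← Category.assoc, lift_map, ← Hom.mul_def, hk.lift_fst, inv_mul_cancel_right]
  haveI : Surjective ((lift z y).left ≫ ((j ⊗ₘ i) ≫ μ[G]).left) := by
    rw [← Over.comp_left, hz]
    exact inferInstanceAs (Surjective (pullback.fst p.left (i ≫ p).left))
  exact Surjective.of_comp (lift z y).left ((j ⊗ₘ i) ≫ μ[G]).left

end Groth.Agent.Chevalley.BC
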