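import Groth.Agent.Chevalley.BC.Frob
import Groth.Agent.Chevalley.BC.Level
import Groth.Agent.Chevalley.BC.AffLib
import Groth.Agent.FrobSchLib.Basic
import Groth.Prelude.Def_W4c3convisocdirimgFrobIter
import Mathlib.FieldTheory.PurelyInseparable.Exponent
import Mathlib.FieldTheory.PurelyInseparable.PerfectClosure

/-!
The theorem of Barsotti and Chevalley over an arbitrary field: a smooth connected group is an
extension of an abelian variety by an affine group scheme, possibly not smooth.
-/

set_option autoImplicit false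
set_option backward.isDefEq.respectTransparency false
universe u
open CategoryTheory CategoryTheory.Limits AlgebraicGeometry MonoidalCategory CartesianMonoidalCategory
open scoped MonObj

namespace Groth.Agent.Chevalley.BC

variable {k : Type u} [Field k]

section Iter
variable (p : ℕ) [Fact p.Prime]

theorem frobIter_comp {X Y : Scheme.{u}} [FrobSch.IsCharP X p] [FrobSch.IsCharP Y p] (f : X ⟶ Y) (n : ℕ) :
    FrobSch.frobIter X p n ≫ f = f ≫ FrobSch.frobIter Y p n := by
  induction n with
  | zero => rw [FrobSch.frobIter_zero, FrobSch.frobIter_zero, Category.id_comp, Category.comp_id]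
  | succ n ih =>
    rw [FrobSch.frobIter_succ, FrobSch.frobIter_succ, Category.assoc, ih, FrobSch.frob_comp_assoc]

theorem frobIter_appTop (X : Scheme.{u}) [FrobSch.IsCharP X p] (n : ℕ) (s : Γ(X, ⊤)) :
    (FrobSch.frobIter X p n).appTop s = s ^ p ^ n := by
  induction n with
  | zero => simp
  | succ n ih =>
    rw [FrobSch.frobIter_succ, Scheme.Hom.comp_appTop, CommRingCat.comp_apply, ih, map_pow, FrobSch.frob_appTop,
      ← pow_mul, ← pow_succ']

theorem frobIter_apply (X : Scheme.{u}) [FrobSch.IsCharP X p] (n : ℕ) (x : X) : FrobSch.frobIter X p n x = x := by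
  induction n with
  | zero => rfl
  | succ n ih => rw [FrobSch.frobIter_succ, Scheme.Hom.comp_apply, FrobSch.frob_apply, ih]

theorem frobIter_app_eq_zero (X : Scheme.{u}) [FrobSch.IsCharP X p] (U : X.Opens) (n : ℕ) :
    ∀ (m : ℕ) (s : Γ(X, U)), s ^ p ^ (n + m) = 0 → ((FrobSch.frobIter X p n).app U s) ^ p ^ m = 0 := by
  induction n with
  | zero => intro m s hs; rw [Nat.zero_add] at hs; exact hs
  | succ n ih =>
    intro m s hs
    have h1 := ih (m + 1) s (by rw [← hs]; congr 2; omega)
    simp only [FrobSch.frobIter_succ, Scheme.Hom.comp_app, CommRingCat.comp_apply]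
    refine Eq.trans ?_ h1
    erw [FrobSch.frob_app]
    rw [← pow_mul, ← pow_succ']

theorem isAffineHom_frobIter (X : Scheme.{u}) [FrobSch.IsCharP X p] (n : ℕ) :
    IsAffineHom (FrobSch.frobIter X p n) := by
  induction n with
  | zero => rw [FrobSch.frobIter_zero]; infer_instance
  | succ n ih =>
    haveI := ih
    haveI : IsIntegralHom (FrobSch.frob X p) := FrobSchLib.isIntegralHom_frob (p := p) X
    rw [FrobSch.frobIter_succ]; infer_instance

theorem spec_map_frobIter {R A : Type u} [CommRing R] [CommRing A] [FrobSch.IsCharP (Spec (CommRingCat.of A)) p]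
    (n : ℕ) (χ b : R →+* A) (h : ∀ r, b r = χ r ^ p ^ n) :
    FrobSch.frobIter (Spec (CommRingCat.of A)) p n ≫ Spec.map (CommRingCat.ofHom χ) =
      Spec.map (CommRingCat.ofHom b) := by
  refine AlgebraicGeometry.ext_of_isAffine ?_
  ext r
  obtain ⟨r, rfl⟩ := (ConcreteCategory.bijective_of_isIso (Scheme.ΓSpecIso (CommRingCat.of R)).inv).2 r
  rw [Scheme.Hom.comp_appTop, CommRingCat.comp_apply, frobIter_appTop]
  have h1 := ConcreteCategory.congr_hom (Scheme.ΓSpecIso_inv_naturality (CommRingCat.ofHom χ)) r
  have h2 := ConcreteCategory.congr_hom (Scheme.ΓSpecIso_inv_naturality (CommRingCat.ofHom b)) r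
  rw [CommRingCat.comp_apply, CommRingCat.comp_apply] at h1 h2
  rw [← h1, ← map_pow]
  refine .trans ?_ h2
  exact congrArg _ (h r).symm

end Iter

/-- Barsotti–Chevalley over any field. -/
theorem exists_affine_quot (G : Over (Spec (CommRingCat.of k))) [GrpObj G] [Smooth G.hom] [QuasiCompact G.hom]
    [ConnectedSpace G.left] :
    ∃ (L : Over (Spec (CommRingCat.of k))) (_ : GrpObj L) (l : L ⟶ G) (Q : Over (Spec (CommRingCat.of k))) (_ : GrpObj Q)
      (q : G ⟶ Q), IsMonHom l ∧ IsClosedImmersion l.left ∧ AlgGrp.IsNormalHom l ∧ IsAffine L.left ∧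
        IsMonHom q ∧ Surjective q.left ∧ Flat q.left ∧ AlgGrp.IsKernel l q ∧
        IsProper Q.hom ∧ Smooth Q.hom ∧ ConnectedSpace Q.left := by
  obtain ⟨p, hp⟩ := ExpChar.exists k
  cases hp with
  | zero =>
    obtain ⟨L, _, l, Q, _, q, hl, h1, h2, h3, h4, h5, h6, h7⟩ := exists_chevalley_perfect G
    exact ⟨L, inferInstance, l, Q, inferInstance, q, hl.hom, hl.closed, hl.normal, hl.prop, h1, h2, h3, h4, h5, h6, h7⟩
  | prime hprime =>
    haveI : Fact p.Prime := ⟨hprime⟩
    haveI := GrpSchLib.AntiAffine.isSeparated_grp G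
    haveI : GeometricallyConnected G.hom := H23.GeomConn.of_point k G.hom η[G].left (Over.w η[G])
    let K := perfectClosure k (AlgebraicClosure k)
    haveI : PerfectField K := perfectClosure.perfectField k (AlgebraicClosure k)
    let φ : Spec (CommRingCat.of K) ⟶ Spec (CommRingCat.of k) := Spec.map (CommRingCat.ofHom (algebraMap k K))
    haveI : Smooth (Red.bc φ G).hom := inferInstanceAs (Smooth (pullback.snd G.hom φ))
    haveI : QuasiCompact (Red.bc φ G).hom := inferInstanceAs (QuasiCompact (pullback.snd G.hom φ))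
    haveI : ConnectedSpace (Red.bc φ G).left := inferInstanceAs (ConnectedSpace ↥(pullback G.hom φ))
    obtain ⟨L, _, l, A, _, q₀, hl, hq₀, hq₀s, hq₀f, hk₀, hAp, -, -⟩ := exists_chevalley_perfect (Red.bc φ G)
    haveI := hl.hom; haveI := hl.closed; haveI : IsAffine L.left := hl.prop
    haveI := hq₀; haveI := hq₀s; haveI := hq₀f; haveI := hAp
    haveI : Algebra.IsAlgebraic k K := inferInstance
    obtain ⟨F, hF, hlev⟩ := exists_level (K := K) G.hom l.left
    obtain ⟨L₀, l₀, e, hl₀, sq⟩ := hlev F le_rfl
    haveI := hF; haveI := hl₀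
    haveI : IsPurelyInseparable k F := IsPurelyInseparable.tower_bot k F K
    let N := IsPurelyInseparable.exponent k F
    let r : F →+* k := IsPurelyInseparable.iterateFrobenius k F p (le_refl N)
    let σ : Spec (CommRingCat.of F) ⟶ Spec (CommRingCat.of k) := Spec.map (CommRingCat.ofHom (algebraMap k F))
    let χ : Spec (CommRingCat.of K) ⟶ Spec (CommRingCat.of F) := Spec.map (CommRingCat.ofHom (algebraMap F K))
    let ρ : Spec (CommRingCat.of k) ⟶ Spec (CommRingCat.of F) := Spec.map (CommRingCat.ofHom r)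
    have hχσ : χ ≫ σ = φ := by
      simp only [χ, σ, φ, ← Spec.map_comp, ← CommRingCat.ofHom_comp, ← IsScalarTower.algebraMap_eq]
    haveI : IsSeparated σ := inferInstance
    haveI : QuasiCompact χ := inferInstance
    haveI : Flat χ := by
      refine (HasRingHomProperty.Spec_iff (P := @Flat)).2 ?_
      exact RingHom.flat_algebraMap_iff.mpr inferInstance
    haveI : Surjective χ := ⟨fun x => ⟨IsLocalRing.closedPoint K, Subsingleton.elim _ _⟩⟩
    haveI : FrobSch.IsCharP (Spec (CommRingCat.of k)) p := inferInstance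
    haveI hchar : ∀ Y : Over (Spec (CommRingCat.of k)), FrobSch.IsCharP Y.left p := fun Y =>
      FrobSch.IsCharP.of_hom Y.hom p
    let Fr : ∀ Y : Over (Spec (CommRingCat.of k)), Y.left ⟶ Y.left := fun Y => FrobSch.frobIter Y.left p N
    have hρσ : ρ ≫ σ = FrobSch.frobIter (Spec (CommRingCat.of k)) p N := by
      have h := spec_map_frobIter p N (RingHom.id k) (r.comp (algebraMap k F)) fun a => by
        simp only [RingHom.comp_apply, RingHom.id_apply, r]
        exact IsPurelyInseparable.iterateFrobenius_algebraMap F p (le_refl N) a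
      simp only [CommRingCat.ofHom_id, Spec.map_id, Category.comp_id] at h
      rw [h, ← Spec.map_comp, ← CommRingCat.ofHom_comp]
    haveI : FrobSch.IsCharP (Spec (CommRingCat.of K)) p := hchar (Over.mk φ)
    haveI : IsAffine L₀ := by
      haveI := EtFound.fpqc_isAffineHom.{u}
      haveI : IsAffineHom (l.left ≫ pullback.snd G.hom φ) := inferInstance
      have hsq := sq.paste_vert (isPullback_levelMap G.hom F)
      haveI : IsAffineHom (l₀ ≫ pullback.snd G.hom σ) := MorphismProperty.of_isPullback_of_descendsAlong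
        (P := @IsAffineHom) (Q := (@Surjective ⊓ @Flat ⊓ @QuasiCompact : MorphismProperty Scheme.{u}))
        hsq.flip ⟨⟨‹Surjective χ›, ‹Flat χ›⟩, ‹QuasiCompact χ›⟩ ‹_›
      exact isAffine_of_isAffineHom (l₀ ≫ pullback.snd G.hom σ)
    haveI : Flat σ := (HasRingHomProperty.Spec_iff (P := @Flat)).2 (RingHom.flat_algebraMap_iff.mpr inferInstance)
    haveI : Surjective σ := ⟨fun x => ⟨IsLocalRing.closedPoint F, Subsingleton.elim _ _⟩⟩
    haveI : Surjective φ := ⟨fun x => ⟨IsLocalRing.closedPoint K, Subsingleton.elim _ _⟩⟩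
    obtain ⟨H, _, h, hh, hhc, hhn, hHa, t, ht, -⟩ := exists_subgroup_twist φ σ χ ρ Fr hχσ
      (fun Y => by rw [frobIter_comp p Y.hom N, hρσ])
      (fun {Y Y'} f => frobIter_comp p f.left N)
      (by
        haveI : FrobSch.IsCharP (Spec (CommRingCat.of F)) p := hchar (Over.mk σ)
        show FrobSch.frobIter (Spec (CommRingCat.of F)) p N = σ ≫ ρ
        have h := spec_map_frobIter p N (RingHom.id F) ((algebraMap k F).comp r) fun a => by
          simp only [RingHom.comp_apply, RingHom.id_apply, r]
          exact IsPurelyInseparable.algebraMap_iterateFrobenius k p (le_refl N) a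
        simp only [CommRingCat.ofHom_id, Spec.map_id, Category.comp_id] at h
        rw [h, CommRingCat.ofHom_comp, Spec.map_comp])
      (fun Y y => frobIter_apply p Y.left N y)
      G (isAffineHom_frobIter p G.left N) (𝟙 _) ⟨_, Category.comp_id _⟩ l (fun T g a _ => hl.normal T g a) l₀ e sq
    haveI := hh; haveI := hhc; haveI := hHa
    haveI : Mono h := Over.mono_of_mono_left _
    haveI : LocallyOfFiniteType H.hom := by rw [← Over.w h]; infer_instance
    obtain ⟨Q, _, q, hq, hqf, hqs, hqp, hQl, -, hk⟩ := GrpQuotLib.exists_quotientGrp h hhn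
    haveI := hq; haveI := hqf; haveI := hqs; haveI := hqp; haveI := hQl
    obtain ⟨-, hQqc, -⟩ := GrpQuotLib.props_of_cover ⟨hqf, hqs, hqp⟩
    haveI : QuasiCompact Q.hom := hQqc inferInstance
    haveI : Smooth Q.hom := GrpSchLib.smooth_of_quotient q
    haveI : ConnectedSpace Q.left := q.left.surjective.connectedSpace q.left.continuous
    haveI := GrpSchLib.AntiAffine.isSeparated_grp Q
    let qK := (Over.pullback φ).map q
    haveI : IsMonHom qK := inferInstance
    haveI : LocallyOfFiniteType (Red.bc φ Q).hom := inferInstanceAs (LocallyOfFiniteType (pullback.snd Q.hom φ))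
    haveI : QuasiCompact (Red.bc φ Q).hom := inferInstanceAs (QuasiCompact (pullback.snd Q.hom φ))
    haveI : IsSeparated (Red.bc φ Q).hom := inferInstanceAs (IsSeparated (pullback.snd Q.hom φ))
    haveI : Surjective qK.left := (MorphismProperty.baseChange_map φ q ‹Surjective q.left› :)
    have hkill : l ≫ qK = 1 := by
      apply (DSPtsLib.theta_bijective φ).1
      have h1 : DSPtsLib.theta φ (1 : L ⟶ Red.bc φ Q) = 1 := by
        have h0 := DSPtsLib.theta_mul φ (1 : L ⟶ Red.bc φ Q) 1
        rw [_root_.one_mul, left_eq_mul] at h0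
        exact h0
      refine ((Over.mapPullbackAdj φ).homEquiv_naturality_right_symm l q).trans ?_
      show DSPtsLib.theta φ l ≫ q = _
      rw [h1, ← ht, Category.assoc, hk.w, ← Category.assoc, comp_toUnit, Hom.one_def]
    obtain ⟨u, -, hqu, -⟩ := S3280.result K (Red.bc φ G) L A (Red.bc φ Q) q₀ l hk₀ qK hkill
    haveI : Surjective u.left := by
      haveI : Surjective (q₀.left ≫ u.left) := by rw [← Over.comp_left, hqu]; infer_instance
      exact Surjective.of_comp q₀.left u.left
    haveI : IsProper (Red.bc φ Q).hom := isProper_of_surjective u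
    haveI := EtFound.fpqc_isProper.{u}
    haveI : Flat φ := (HasRingHomProperty.Spec_iff (P := @Flat)).2 (RingHom.flat_algebraMap_iff.mpr inferInstance)
    haveI hQp : IsProper Q.hom := MorphismProperty.of_pullback_snd_of_descendsAlong (P := @IsProper)
      (Q := (@Surjective ⊓ @Flat ⊓ @QuasiCompact : MorphismProperty Scheme.{u})) (g := φ)
      ⟨⟨‹Surjective φ›, ‹Flat φ›⟩, inferInstance⟩ (inferInstanceAs (IsProper (Red.bc φ Q).hom))
    exact ⟨H, inferInstance, h, Q, inferInstance, q, hh, hhc, hhn, hHa, hq, hqs, hqf, hk, hQp, inferInstance, inferInstance⟩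

end Groth.Agent.Chevalley.BC
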