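import Groth.Agent.Chevalley.BC.AffLib
import Groth.Agent.GrpSchLib.AntiAffineSmoothAny
import Groth.Agent.GrpSchLib.IsogenyFibre
import Groth.Agent.GrpSchLib.AntiAffineQuot
import Groth.Agent.S3293

/-!
Anti-affine groups are divisible.
-/

universe u

set_option backward.isDefEq.respectTransparency false
set_option linter.style.haveILetI false
set_option maxHeartbeats 1000000
set_option synthInstance.maxHeartbeats 200000

noncomputable section

open CategoryTheory CategoryTheory.Limits AlgebraicGeometry MonoidalCategory CartesianMonoidalCategory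
open scoped MonObj

namespace Groth.Agent.Chevalley.BC

open Val (pp)

variable {k : Type u} [Field k]

theorem pow_comp {G H : Over (Spec (CommRingCat.of k))} [GrpObj G] [GrpObj H] {T : Over (Spec (CommRingCat.of k))}
    (a : T ⟶ G) (r : G ⟶ H) [IsMonHom r] (n : ℕ) : (a ^ n) ≫ r = (a ≫ r) ^ n := by
  induction n with
  | zero => rw [pow_zero, pow_zero, MonObj.one_comp]
  | succ n ih => rw [pow_succ, pow_succ, MonObj.mul_comp, ih]

theorem comp_pow {T T' G : Over (Spec (CommRingCat.of k))} [GrpObj G] (t : T' ⟶ T) (a : T ⟶ G) (n : ℕ) :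
    t ≫ (a ^ n) = (t ≫ a) ^ n := by
  induction n with
  | zero => rw [pow_zero, pow_zero, MonObj.comp_one]
  | succ n ih => rw [pow_succ, pow_succ, MonObj.comp_mul, ih]

variable [IsAlgClosed k] {G : Over (Spec (CommRingCat.of k))} [GrpObj G] [LocallyOfFiniteType G.hom] [QuasiCompact G.hom]

/-- An anti-affine group killed by a positive integer is trivial. -/
theorem id_eq_one_of_killed (hG : Function.Bijective G.hom.appTop) {n : ℕ} (hn : 0 < n)
    (hkill : (𝟙 G ^ n : G ⟶ G) = 1) : 𝟙 G = (1 : G ⟶ G) := by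
  haveI := GrpSchLib.AntiAffineSmooth.smooth hG
  haveI := GrpSchLib.AntiAffine.connectedSpace_of_bijective hG
  obtain ⟨L, _, l, Q, _, q, hl, hq, hqs, hqf, hk, hQp, hQs, hQc⟩ := exists_chevalley G
  haveI := hl.hom; haveI := hl.closed; haveI := hq; haveI := hqs; haveI := hqf; haveI := hQp; haveI := hQs; haveI := hQc
  haveI : IsAffine L.left := hl.prop
  obtain ⟨_, _⟩ := abVar_props (A := Q)
  haveI := hqs
  have h1 : q ^ n = 1 := by rw [← Category.id_comp q, ← pow_comp, hkill, MonObj.one_comp]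
  haveI : Surjective (𝟙 Q ^ n : Q ⟶ Q).left := AVMulN.surjective_pow n hn
  have h2 : q ≫ (𝟙 Q ^ n : Q ⟶ Q) = 1 := by rw [comp_pow, Category.comp_id, h1]
  haveI : Subsingleton Q.left := ⟨fun x y => by
    obtain ⟨x₁, rfl⟩ := (𝟙 Q ^ n : Q ⟶ Q).left.surjective x
    obtain ⟨y₁, rfl⟩ := (𝟙 Q ^ n : Q ⟶ Q).left.surjective y
    obtain ⟨x₂, rfl⟩ := q.left.surjective x₁
    obtain ⟨y₂, rfl⟩ := q.left.surjective y₁
    show (q ≫ (𝟙 Q ^ n : Q ⟶ Q)).left x₂ = (q ≫ (𝟙 Q ^ n : Q ⟶ Q)).left y₂
    rw [h2]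
    exact congrArg η[Q].left (Subsingleton.elim (α := PrimeSpectrum k) _ _)⟩
  haveI : IsAffine Q.left := by
    haveI : Nonempty Q.left := ⟨η[Q].left (IsLocalRing.closedPoint k)⟩
    obtain ⟨U, hU, hx, -⟩ := exists_isAffineOpen_mem_and_subset
      (show (Classical.arbitrary Q.left) ∈ (⊤ : Q.left.Opens) from trivial)
    obtain rfl : U = ⊤ := eq_top_iff.mpr fun y _ => (Subsingleton.elim _ y) ▸ hx
    haveI : IsAffine ((⊤ : Q.left.Opens) : Scheme.{u}) := hU
    exact IsAffine.of_isIso Q.left.topIso.inv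
  have hq1 : q = 1 := by rw [← Category.comp_id q, id_eq_one_of_affine_proper Q, MonObj.comp_one]
  let s := hk.lift (𝟙 G) (toUnit G) (by rw [hq1, MonObj.comp_one]; rfl)
  have hs : s ≫ l = 𝟙 G := hk.lift_fst _ _ _
  haveI : Mono l := Over.mono_of_mono_left _
  have hs1 : η[G] ≫ s = 1 := by
    rw [← cancel_mono l, Category.assoc, hs, Category.comp_id, MonObj.one_comp, ← MonObj.one_eq_one]
  rw [← hs, GrpSchLib.AntiAffine.eq_const_of_isAffine hG s η[G], hs1, MonObj.comp_one, MonObj.one_comp]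

/-- Powers of an anti-affine group are surjective. -/
theorem surjective_pow (hG : Function.Bijective G.hom.appTop) {n : ℕ} (hn : 0 < n) :
    Surjective (𝟙 G ^ n : G ⟶ G).left := by
  haveI := GrpSchLib.AntiAffineSmooth.smooth hG
  haveI := GrpSchLib.AntiAffine.connectedSpace_of_bijective hG
  haveI := (S3293.result k G ((GrpSchLib.AntiAffine.bijective_appTop_iff G.hom).mpr hG)).2
  haveI := GrpSchLib.AntiAffine.isSeparated_grp G
  haveI : IsMonHom (𝟙 G ^ n : G ⟶ G) := LargeNormal.isMonHom_of_mul _ fun T a b => by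
    simp only [comp_pow, Category.comp_id, mul_pow]
  obtain ⟨B, _, p, b, hp, hb, hpb, hbc, hpf, hps, hBl, hBq⟩ := GrpSchLib.ImageFactor.exists_image (𝟙 G ^ n : G ⟶ G)
  haveI := hb; haveI := hbc; haveI := hps; haveI := hBl; haveI := hBq
  haveI : Mono b := Over.mono_of_mono_left _
  have hBn : AlgGrp.IsNormalHom b := fun T g x => ⟨x, by rw [mul_comm g, mul_inv_cancel_right]⟩
  obtain ⟨C, _, r, hr, hrf, hrs, hrl, hCl, -, hrk⟩ := GrpQuotLib.exists_quotientGrp b hBn
  haveI := hr; haveI := hrf; haveI := hrs; haveI := hrl; haveI := hCl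
  obtain ⟨-, hCq, -⟩ := GrpQuotLib.props_of_cover ⟨hrf, hrs, hrl⟩
  haveI : QuasiCompact C.hom := hCq inferInstance
  haveI : Epi r.left := Flat.epi_of_flat_of_surjective _
  haveI : Epi r := (Over.forget _).epi_of_epi_map (inferInstanceAs (Epi r.left))
  have hC := GrpSchLib.Rosenlicht.bijective_of_comp r hG
  have hkill : (𝟙 C ^ n : C ⟶ C) = 1 := by
    rw [← cancel_epi r, comp_pow, Category.comp_id, ← Category.id_comp r, ← pow_comp, ← hpb, Category.assoc, hrk.w,
      Category.id_comp, MonObj.comp_one, ← Category.assoc, comp_toUnit]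
    rfl
  have hr1 : r = 1 := by rw [← Category.comp_id r, id_eq_one_of_killed hC hn hkill, MonObj.comp_one]
  haveI := surjective_of_quot_eq_one b r hrk hr1
  rw [← hpb]
  exact inferInstanceAs (Surjective (p.left ≫ b.left))

omit [IsAlgClosed k] in
theorem isPullback_translate {K Q : Over (Spec (CommRingCat.of k))} [GrpObj Q] (κ : K ⟶ G) (q : G ⟶ Q) [IsMonHom q]
    (hk : AlgGrp.IsKernel κ q) : IsPullback ((κ ▷ G) ≫ μ[G]) (snd K G) q q := by
  have e : (κ ▷ G) ≫ μ[G] = (fst K G ≫ κ) * snd K G := by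
    rw [Hom.mul_def]; congr 1
  rw [e]
  have hw : ((fst K G ≫ κ) * snd K G) ≫ q = snd K G ≫ q := by
    rw [MonObj.mul_comp, Category.assoc, hk.w, ← Category.assoc, comp_toUnit, ← Hom.one_def, _root_.one_mul]
  refine ⟨⟨hw⟩, ⟨PullbackCone.IsLimit.mk _ (fun c => lift (hk.lift (c.fst * c.snd⁻¹) (toUnit _) (by
      rw [MonObj.mul_comp, GrpObj.inv_comp, c.condition, mul_inv_cancel, Hom.one_def])) c.snd)
    (fun c => ?_) (fun c => lift_snd _ _) (fun c m h1 h2 => ?_)⟩⟩
  · rw [MonObj.comp_mul, lift_fst_assoc, lift_snd, hk.lift_fst, inv_mul_cancel_right]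
  · apply CartesianMonoidalCategory.hom_ext
    · rw [lift_fst]
      refine hk.hom_ext ?_ (toUnit_unique _ _)
      rw [hk.lift_fst, eq_mul_inv_iff_mul_eq, ← h1, ← h2, MonObj.comp_mul, Category.assoc]
    · rw [lift_snd, h2]

/-- Powers of an anti-affine group are finite. -/
theorem isFinite_pow (hG : Function.Bijective G.hom.appTop) {n : ℕ} (hn : 0 < n) :
    IsFinite (𝟙 G ^ n : G ⟶ G).left := by
  haveI := GrpSchLib.AntiAffineSmooth.smooth hG
  haveI := GrpSchLib.AntiAffine.connectedSpace_of_bijective hG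
  haveI := (S3293.result k G ((GrpSchLib.AntiAffine.bijective_appTop_iff G.hom).mpr hG)).2
  haveI := GrpSchLib.AntiAffine.isSeparated_grp G
  let f : G ⟶ G := 𝟙 G ^ n
  haveI hf : IsMonHom f := LargeNormal.isMonHom_of_mul _ fun T a b => by
    simp only [f, comp_pow, Category.comp_id, mul_pow]
  haveI : Surjective f.left := surjective_pow hG hn
  haveI : AlgebraicGeometry.IsReduced G.left := GrpSchLib.isReduced_of_smooth_field G.hom
  haveI : QuasiCompact (f.left ≫ G.hom) := by rw [Over.w f]; infer_instance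
  haveI : QuasiCompact f.left := QuasiCompact.of_comp f.left G.hom
  haveI : Flat f.left := GrpSchLib.flat_of_surjective_hom f
  obtain ⟨K, _, κ, hκ, hκc, -, hk⟩ := GrpSchLib.exists_kernel f
  haveI := hκ; haveI := hκc
  haveI : LocallyOfFiniteType K.hom := by rw [← Over.w κ]; infer_instance
  haveI : QuasiCompact K.hom := by rw [← Over.w κ]; infer_instance
  haveI : Nonempty G.left := ⟨η[G].left (IsLocalRing.closedPoint k)⟩
  haveI : Nonempty K.left := ⟨η[K].left (IsLocalRing.closedPoint k)⟩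
  obtain ⟨-, -, hdim⟩ := GrpQuotLib.component_props (GrpSchLib.NilpQuot.cover_of_lft f)
    (isPullback_translate κ f hk) (η[G].left (IsLocalRing.closedPoint k))
  rw [GrpQuotLib.dim_grp_component] at hdim
  obtain ⟨g, hg⟩ := GrpQuotLib.exists_nat_dim (A := k) (F := G)
  obtain ⟨r, hr⟩ := GrpQuotLib.exists_nat_dim (A := k) (F := K)
  rw [hg, hr] at hdim
  have hr0 : r = 0 := by
    have : g + r = g := by exact_mod_cast hdim
    omega
  obtain ⟨N, _, c, hc, hcc, hNs, hNq, hNc, hcr⟩ := exists_comp K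
  haveI := hc; haveI := hcc; haveI := hNs; haveI := hNq; haveI := hNc
  have hNd : topologicalKrullDim N.left = (0 : ℕ) := by
    rw [← hr0, ← hr, ← GrpQuotLib.dim_grp_component (pp η[K]), ← hcr]
    exact (c.left.isClosedEmbedding.toIsEmbedding.toHomeomorph).isHomeomorph.topologicalKrullDim_eq
  haveI := S18068.isIntegral_grp N
  haveI := GrpSchLib.AntiAffine.isSeparated_grp N
  haveI : IsClosedImmersion η[N].left := by
    haveI : IsClosedImmersion (η[N].left ≫ N.hom) := by
      rw [Over.w η[N]]; exact inferInstanceAs (IsClosedImmersion (𝟙 (Spec (CommRingCat.of k))))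
    exact IsClosedImmersion.of_comp η[N].left N.hom
  haveI : Subsingleton ↥(𝟙_ (Over (Spec (CommRingCat.of k)))).left := inferInstanceAs (Subsingleton (PrimeSpectrum k))
  haveI : Nonempty ↥(𝟙_ (Over (Spec (CommRingCat.of k)))).left := ⟨IsLocalRing.closedPoint k⟩
  haveI : IsIso η[N].left := S10839.result η[N].left (by rw [hNd]; exact (WithBot.coe_injective.ne (ENat.coe_ne_top 0)))
    (by
      haveI : LocallyOfFiniteType (𝟙_ (Over (Spec (CommRingCat.of k)))).hom :=
        inferInstanceAs (LocallyOfFiniteType (𝟙 (Spec (CommRingCat.of k))))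
      haveI : QuasiCompact (𝟙_ (Over (Spec (CommRingCat.of k)))).hom :=
        inferInstanceAs (QuasiCompact (𝟙 (Spec (CommRingCat.of k))))
      obtain ⟨d, hd⟩ := GrpQuotLib.exists_nat_dim (A := k) (F := 𝟙_ (Over (Spec (CommRingCat.of k))))
      have h0 := topologicalKrullDim_zero_of_discreteTopology (𝟙_ (Over (Spec (CommRingCat.of k)))).left
      rw [hd] at h0
      have : d ≤ 0 := by exact_mod_cast h0
      rw [hNd, hd, Nat.le_zero.mp this])
  haveI : IsIso η[N] := by
    haveI : IsIso ((Over.forget _).map η[N]) := inferInstanceAs (IsIso η[N].left)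
    exact isIso_of_reflects_iso η[N] (Over.forget _)
  haveI := isFinite_of_isIso K c hcr inferInstance
  haveI := EtFound.fpqc_isFinite.{u}
  exact S7982.property_of_kernel κ f hk @IsFinite inferInstance

end Groth.Agent.Chevalley.BC
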