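import Groth.Agent.Chevalley.BC.Perfect
import Groth.Agent.EtFound.Descent
import Groth.Agent.DSPtsLib.Basic

/-!
Subgroups cut out after a twist by an endomorphism of the absolute Frobenius type.

Given `χ : K → F` over the base and `ρ : k → F` with a natural family of endomorphisms `Fr` lying
over `ρ ≫ σ`, a closed normal subgroup of `G_K` defined over `F` gives one of `G` over `k`.
-/

set_option autoImplicit false
set_option backward.isDefEq.respectTransparency false
universe u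
open CategoryTheory CategoryTheory.Limits AlgebraicGeometry MonoidalCategory CartesianMonoidalCategory
open scoped MonObj

namespace Groth.Agent.Chevalley.BC

theorem exists_descend_closed {T T' X Z : Scheme.{u}} (f : T' ⟶ T) [Flat f] [Surjective f] [QuasiCompact f]
    (i : Z ⟶ X) [IsClosedImmersion i] (y : T ⟶ X) (z : T' ⟶ Z) (h : f ≫ y = z ≫ i) :
    ∃ z₁ : T ⟶ Z, z₁ ≫ i = y := by
  let j : pullback y i ⟶ T := pullback.fst y i
  haveI : Mono (pullback.fst f j) := inferInstance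
  haveI : IsSplitEpi (pullback.fst f j) :=
    ⟨⟨pullback.lift (𝟙 T') (pullback.lift f z h) (by rw [Category.id_comp, pullback.lift_fst]), pullback.lift_fst _ _ _⟩⟩
  haveI : IsIso (pullback.fst f j) := isIso_of_mono_of_isSplitEpi _
  haveI : IsIso j := MorphismProperty.of_pullback_fst_of_descendsAlong
    (P := MorphismProperty.isomorphisms Scheme.{u})
    (Q := (@Surjective ⊓ @Flat ⊓ @QuasiCompact : MorphismProperty Scheme.{u})) (f := f) (g := j)
    ⟨⟨‹_›, ‹_›⟩, ‹_›⟩ ‹_›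
  exact ⟨inv j ≫ pullback.snd y i, by rw [Category.assoc, ← pullback.condition, IsIso.inv_hom_id_assoc]⟩

section Twist

variable {S SK SF : Scheme.{u}} (φ : SK ⟶ S) (σ : SF ⟶ S) (χ : SK ⟶ SF) (ρ : S ⟶ SF)
  (Fr : ∀ Y : Over S, Y.left ⟶ Y.left)

/-- Frobenius subgroup. -/
theorem exists_subgroup_twist (hχ : χ ≫ σ = φ) [Surjective φ] [Flat χ] [Surjective χ] [QuasiCompact χ]
    (hFr : ∀ Y : Over S, Fr Y ≫ Y.hom = Y.hom ≫ ρ ≫ σ)
    (hnat : ∀ {Y Y' : Over S} (f : Y ⟶ Y'), Fr Y ≫ f.left = f.left ≫ Fr Y')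
    (hF : Fr (Over.mk σ) = σ ≫ ρ) (hid : ∀ (Y : Over S) (y : Y.left), Fr Y y = y)
    [IsSeparated σ] [Flat σ] [Surjective σ] [QuasiCompact σ] (G : Over S) [GrpObj G] (hFG : IsAffineHom (Fr G))
    {R₀ : Scheme.{u}} (r₀ : R₀ ⟶ pullback G.hom σ) [IsClosedImmersion r₀]
    (hR : ∃ w, w ≫ r₀ = Fr (Over.mk (pullback.fst G.hom σ ≫ G.hom)))
    {L : Over SK} [GrpObj L] (l : L ⟶ Red.bc φ G) [IsMonHom l]
    (hl : ∀ (T : Over SK) (g : T ⟶ Red.bc φ G) (a : T ⟶ L),
      (∃ z, z ≫ r₀ = g.left ≫ pullback.lift (f := G.hom) (g := σ) (pullback.fst G.hom φ) (pullback.snd G.hom φ ≫ χ)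
        (by rw [Category.assoc, hχ]; exact pullback.condition)) →
      ∃ b, g * (a ≫ l) * g⁻¹ = b ≫ l)
    {L₀ : Scheme.{u}} (l₀ : L₀ ⟶ pullback G.hom σ) [IsClosedImmersion l₀] [IsAffine L₀]
    (e : L.left ⟶ L₀) (sq : IsPullback e l.left l₀
      (pullback.lift (pullback.fst G.hom φ) (pullback.snd G.hom φ ≫ χ)
        (by rw [Category.assoc, hχ]; exact pullback.condition))) :
    ∃ (H : Over S) (_ : GrpObj H) (h : H ⟶ G), IsMonHom h ∧ IsClosedImmersion h.left ∧ AlgGrp.IsNormalHom h ∧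
      IsAffine H.left ∧ ∃ t : (Over.map φ).obj L ⟶ H, t ≫ h = DSPtsLib.theta φ l ∧ Surjective t.left := by
  haveI : IsAffineHom (Fr G) := hFG
  let π := pullback.lift (f := G.hom) (g := σ) (pullback.fst G.hom φ) (pullback.snd G.hom φ ≫ χ)
        (by rw [Category.assoc, hχ]; exact pullback.condition)
  let u : G.left ⟶ pullback G.hom σ := pullback.lift (Fr G) (G.hom ≫ ρ) (by rw [hFr, Category.assoc])
  haveI : IsAffineHom u := by
    haveI : IsAffineHom (u ≫ pullback.fst G.hom σ) := by rw [pullback.lift_fst]; exact hFG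
    exact MorphismProperty.of_postcomp (W := @IsAffineHom) (W' := @IsSeparated) u (pullback.fst G.hom σ)
      inferInstance ‹_›
  let W : Over S := Over.mk (pullback.fst G.hom σ ≫ G.hom)
  have hW : pullback.fst G.hom σ ≫ u = Fr W := by
    let a : W ⟶ G := Over.homMk (pullback.fst G.hom σ) rfl
    let b : W ⟶ Over.mk σ := Over.homMk (pullback.snd G.hom σ) pullback.condition.symm
    refine pullback.hom_ext ?_ ?_
    · rw [Category.assoc, pullback.lift_fst]
      exact (hnat a).symm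
    · rw [Category.assoc, pullback.lift_snd]
      refine Eq.trans ?_ (hnat b).symm
      rw [hF]
      exact pullback.condition_assoc _
  haveI : Surjective (pullback.fst G.hom σ) := inferInstance
  haveI : Flat (pullback.fst G.hom σ) := inferInstance
  haveI : QuasiCompact (pullback.fst G.hom σ) := inferInstance
  obtain ⟨w₀, hw₀⟩ := hR
  obtain ⟨w, hw⟩ := exists_descend_closed (pullback.fst G.hom σ) r₀ u w₀ (hW.trans hw₀.symm)
  let H : Over S := Over.mk (pullback.fst u l₀ ≫ G.hom)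
  let h : H ⟶ G := Over.homMk (pullback.fst u l₀) rfl
  haveI : IsClosedImmersion h.left := inferInstanceAs (IsClosedImmersion (pullback.fst u l₀))
  haveI : Mono h := Over.mono_of_mono_left _
  have hfac : ∀ {T : Over S} (x : T ⟶ G) (z : T.left ⟶ L₀), z ≫ l₀ = x.left ≫ u → ∃ w : T ⟶ H, w ≫ h = x := by
    intro T x z hz
    refine ⟨Over.homMk (pullback.lift x.left z hz.symm) ?_, ?_⟩
    · show pullback.lift _ _ _ ≫ pullback.fst u l₀ ≫ G.hom = T.hom
      rw [pullback.lift_fst_assoc, Over.w x]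
    · exact Over.OverMorphism.ext (pullback.lift_fst _ _ _)
  let T' : Over S → Over SK := fun T => Over.mk (pullback.snd (T.hom ≫ ρ) χ)
  let p : ∀ T : Over S, (Over.map φ).obj (T' T) ⟶ T := fun T =>
    Over.homMk (pullback.fst (T.hom ≫ ρ) χ ≫ Fr T) (by
      show (pullback.fst (T.hom ≫ ρ) χ ≫ Fr T) ≫ T.hom = pullback.snd (T.hom ≫ ρ) χ ≫ φ
      rw [Category.assoc, hFr, ← hχ, ← pullback.condition_assoc, Category.assoc])
  let Θ : ∀ {T : Over S}, (T ⟶ G) → (T' T ⟶ Red.bc φ G) := fun {T} x =>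
    (Over.mapPullbackAdj φ).homEquiv (T' T) G (p T ≫ x)
  have hΘmul : ∀ {T : Over S} (x y : T ⟶ G), Θ (x * y) = Θ x * Θ y := by
    intro T x y
    simp only [Θ, MonObj.comp_mul]
    exact AlgGrp.Action.homEquiv_mul φ _ _
  have hΘone : ∀ {T : Over S}, Θ (1 : T ⟶ G) = 1 := by
    intro T
    have h1 := hΘmul (1 : T ⟶ G) 1
    rw [_root_.one_mul, left_eq_mul] at h1
    exact h1
  have hΘinv : ∀ {T : Over S} (x : T ⟶ G), Θ x⁻¹ = (Θ x)⁻¹ := by
    intro T x
    refine eq_inv_of_mul_eq_one_left ?_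
    rw [← hΘmul, inv_mul_cancel, hΘone]
  have hΘth : ∀ {T : Over S} (x : T ⟶ G), (Θ x).left ≫ π = pullback.fst (T.hom ≫ ρ) χ ≫ x.left ≫ u := by
    intro T x
    have h1 : DSPtsLib.theta φ (Θ x) = p T ≫ x := Equiv.symm_apply_apply _ _
    have h2 : (Θ x).left ≫ pullback.fst G.hom φ = (pullback.fst (T.hom ≫ ρ) χ ≫ Fr T) ≫ x.left := by
      rw [← DSPtsLib.theta_left, h1]; rfl
    have h3 : (Θ x).left ≫ pullback.snd G.hom φ = pullback.snd (T.hom ≫ ρ) χ := Over.w (Θ x)
    refine pullback.hom_ext ?_ ?_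
    · simp only [π, u, Category.assoc, pullback.lift_fst]
      rw [h2, Category.assoc, hnat x]
    · simp only [π, u, Category.assoc, pullback.lift_snd]
      rw [reassoc_of% h3, ← pullback.condition, Over.w_assoc x]
  have hin : ∀ {T : Over S} (x : T ⟶ G) (w : T ⟶ H), w ≫ h = x → ∃ z : T' T ⟶ L, z ≫ l = Θ x := by
    intro T x w hw
    have h0 : x.left ≫ u = (w.left ≫ pullback.snd u l₀) ≫ l₀ := by
      rw [← hw, Over.comp_left, Category.assoc, Category.assoc, ← pullback.condition]; rfl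
    have h1 : (pullback.fst (T.hom ≫ ρ) χ ≫ w.left ≫ pullback.snd u l₀) ≫ l₀ = (Θ x).left ≫ π := by
      rw [hΘth, h0]; simp only [Category.assoc]
    have h2 : sq.lift _ _ h1 ≫ l.left = (Θ x).left := sq.lift_snd _ _ h1
    exact ⟨Over.homMk (sq.lift _ _ h1) (by rw [← Over.w l, reassoc_of% h2]; exact Over.w (Θ x)),
      Over.OverMorphism.ext h2⟩
  have hout : ∀ {T : Over S} (x : T ⟶ G) (z : T' T ⟶ L), z ≫ l = Θ x → ∃ w : T ⟶ H, w ≫ h = x := by
    intro T x z hz
    have h1 : pullback.fst (T.hom ≫ ρ) χ ≫ x.left ≫ u = (z.left ≫ e) ≫ l₀ := by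
      rw [← hΘth, ← hz, Over.comp_left, Category.assoc, Category.assoc, sq.w]
    haveI : Flat (pullback.fst (T.hom ≫ ρ) χ) := inferInstance
    haveI : Surjective (pullback.fst (T.hom ≫ ρ) χ) := inferInstance
    haveI : QuasiCompact (pullback.fst (T.hom ≫ ρ) χ) := inferInstance
    obtain ⟨z₁, hz₁⟩ := exists_descend_closed (pullback.fst (T.hom ≫ ρ) χ) l₀ _ _ h1
    exact hfac x z₁ hz₁
  obtain ⟨_, hh, hn⟩ := LargeNormal.exists_subgroup h
    (by
      obtain ⟨w, hw⟩ := hout (η[G]) (1 : T' (𝟙_ (Over S)) ⟶ L) (by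
        rw [MonObj.one_comp, show (η[G] : 𝟙_ (Over S) ⟶ G) = 1 from MonObj.one_eq_one (M := G), hΘone])
      exact ⟨w, hw⟩)
    (fun T x y => by
      obtain ⟨a, ha⟩ := hin _ x rfl
      obtain ⟨b, hb⟩ := hin _ y rfl
      exact hout _ (a * b) (by rw [MonObj.mul_comp, ha, hb, hΘmul]))
    (fun T x => by
      obtain ⟨a, ha⟩ := hin _ x rfl
      exact hout _ a⁻¹ (by rw [GrpObj.inv_comp, ha, hΘinv]))
    (fun T g x => by
      obtain ⟨a, ha⟩ := hin _ x rfl
      obtain ⟨b, hb⟩ := hl _ (Θ g) a ⟨pullback.fst (T.hom ≫ ρ) χ ≫ g.left ≫ w, by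
        rw [hΘth, Category.assoc, Category.assoc, hw]⟩
      obtain ⟨w, hw⟩ := hout (g * (x ≫ h) * g⁻¹) b (by rw [hΘmul, hΘmul, hΘinv, ← ha, hb])
      exact ⟨w, hw.symm⟩)
  haveI : IsAffineHom (pullback.snd u l₀) := inferInstance
  haveI : IsAffine H.left := isAffine_of_isAffineHom (pullback.snd u l₀)
  have hK : Fr (Over.mk φ) ≫ χ = φ ≫ ρ := by
    let c : Over.mk φ ⟶ Over.mk σ := Over.homMk χ hχ
    refine (hnat c).trans ?_
    rw [hF]
    show χ ≫ σ ≫ ρ = φ ≫ ρ
    rw [reassoc_of% hχ]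
  let LT : Over S := (Over.map φ).obj L
  let g : LT ⟶ Over.mk φ := Over.homMk L.hom rfl
  have h1 : l.left ≫ π = e ≫ l₀ := sq.w.symm
  obtain ⟨t, ht⟩ : ∃ t : (Over.map φ).obj L ⟶ H, t ≫ h = DSPtsLib.theta φ l := by
    refine hfac (DSPtsLib.theta φ l) (Fr LT ≫ e) ?_
    rw [Category.assoc, ← h1, DSPtsLib.theta_left]
    refine pullback.hom_ext ?_ ?_
    · simp only [π, u, Category.assoc, pullback.lift_fst]
      have h2 := hnat (DSPtsLib.theta φ l)
      rw [DSPtsLib.theta_left] at h2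
      exact h2.trans (Category.assoc _ _ _)
    · simp only [π, u, Category.assoc, pullback.lift_snd]
      have h2 : l.left ≫ pullback.snd G.hom φ = L.hom := Over.w l
      have h3 : Fr LT ≫ L.hom = L.hom ≫ Fr (Over.mk φ) := hnat g
      rw [reassoc_of% h2, reassoc_of% h3, hK, pullback.condition_assoc, reassoc_of% h2]
  refine ⟨H, _, h, hh, ‹_›, hn, ‹_›, t, ht, ⟨fun x => ?_⟩⟩
  obtain ⟨y, hy⟩ := (pullback.fst G.hom φ).surjective (h.left x)
  have h4 : π y = u (h.left x) := by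
    have h5 : pullback.fst G.hom σ (π y) = h.left x := by
      rw [← Scheme.Hom.comp_apply, pullback.lift_fst, hy]
    rw [← h5, ← Scheme.Hom.comp_apply (pullback.fst G.hom σ) u, hW]
    exact (hid W _).symm
  obtain ⟨z, hz1, hz2⟩ := Scheme.Pullback.exists_preimage_pullback (f := l₀) (g := π) (pullback.snd u l₀ x) y (by
    rw [h4, ← Scheme.Hom.comp_apply, ← Scheme.Hom.comp_apply]
    exact congrArg (fun f : H.left ⟶ pullback G.hom σ => f x) pullback.condition.symm)
  let a : L.left := sq.isoPullback.inv z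
  have ha : l.left a = y := by
    rw [← hz2, ← Scheme.Hom.comp_apply, IsPullback.isoPullback_inv_snd]; rfl
  refine ⟨a, h.left.isClosedEmbedding.injective ?_⟩
  have h6 : t.left ≫ h.left = l.left ≫ pullback.fst G.hom φ := congrArg CommaMorphism.left ht
  refine (Scheme.Hom.comp_apply t.left h.left a).symm.trans ?_
  rw [h6, Scheme.Hom.comp_apply]
  exact (congrArg (pullback.fst G.hom φ) ha).trans hy

end Twist

end Groth.Agent.Chevalley.BC
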