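import Groth.Agent.Chevalley.BC.Smallest
import Groth.Agent.GrpSchLib.Cartier
import Groth.Agent.GrpSchLib.KernelGrp
import Groth.Agent.GrpSchLib.ImageFactor
import Groth.Agent.H23.FinCondSch

/-!
The smallest normal subgroup scheme with proper quotient of a group scheme of finite type.
-/

set_option autoImplicit false
set_option backward.isDefEq.respectTransparency false
universe u
open CategoryTheory CategoryTheory.Limits AlgebraicGeometry MonoidalCategory CartesianMonoidalCategory
open scoped MonObj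

namespace Groth.Agent.Chevalley.BC

variable {k : Type u} [Field k]

local notation "Sch" => Over (Spec (CommRingCat.of k))

/-- The kernel of a homomorphism to a proper group killing a subgroup and its quotient. -/
def AffQuot {G : Over (Spec (CommRingCat.of k))} [GrpObj G] {N : Over (Spec (CommRingCat.of k))} [GrpObj N]
    (i : N ⟶ G) {Q : Over (Spec (CommRingCat.of k))} [GrpObj Q] (q : G ⟶ Q) : Prop :=
  IsMonHom i ∧ IsClosedImmersion i.left ∧ AlgGrp.IsNormalHom i ∧ IsAffine N.left ∧
    IsMonHom q ∧ Surjective q.left ∧ Flat q.left ∧ AlgGrp.IsKernel i q ∧ IsProper Q.hom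

/-- A homomorphism to a proper group is dominated by a flat surjective one onto a proper group. -/
theorem exists_proper_image {G P : Sch} [GrpObj G] [GrpObj P] [LocallyOfFiniteType G.hom] [QuasiCompact G.hom]
    [IsProper P.hom] (f : G ⟶ P) [IsMonHom f] :
    ∃ (I : Sch) (_ : GrpObj I) (p : G ⟶ I) (b : I ⟶ P), IsMonHom p ∧ Mono b ∧ IsMonHom b ∧ p ≫ b = f ∧
      Flat p.left ∧ Surjective p.left ∧ IsProper I.hom := by
  obtain ⟨I, _, p, b, hp, hb, hpb, hbc, hpf, hps, -, -⟩ := GrpSchLib.ImageFactor.exists_image f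
  haveI := hbc
  haveI : IsProper I.hom := by rw [← Over.w b]; infer_instance
  exact ⟨I, inferInstance, p, b, hp, Over.mono_of_mono_left _, hb, hpb, hpf, hps, inferInstance⟩

/-- An affine normal subgroup with proper quotient whose points come from a connected scheme killed by all proper
quotients. -/
theorem exists_affQuot_charP (p : ℕ) [Fact p.Prime] [CharP k p]
    (G : Sch) [GrpObj G] [LocallyOfFiniteType G.hom] [QuasiCompact G.hom] :
    ∃ (H : Sch) (_ : GrpObj H) (h : H ⟶ G) (Q : Sch) (_ : GrpObj Q) (q : G ⟶ Q), AffQuot h q ∧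
      ∃ (X : Sch) (t : X ⟶ H), ConnectedSpace X.left ∧ Surjective t.left ∧
        ∀ (Q' : Sch) [GrpObj Q'] [IsProper Q'.hom] (q' : G ⟶ Q') [IsMonHom q'], t ≫ h ≫ q' = 1 := by
  haveI : ExpChar k p := ExpChar.prime Fact.out
  haveI := GrpSchLib.AntiAffine.isSeparated_grp G
  let K := perfectClosure k (AlgebraicClosure k)
  haveI : PerfectField K := perfectClosure.perfectField k (AlgebraicClosure k)
  let φ : Spec (CommRingCat.of K) ⟶ Spec (CommRingCat.of k) := Spec.map (CommRingCat.ofHom (algebraMap k K))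
  haveI : LocallyOfFiniteType (Red.bc φ G).hom := inferInstanceAs (LocallyOfFiniteType (pullback.snd G.hom φ))
  haveI : QuasiCompact (Red.bc φ G).hom := inferInstanceAs (QuasiCompact (pullback.snd G.hom φ))
  obtain ⟨R, _, r, hr, hrc, hRr, hrs, hRl, hRq⟩ := GrpSchLib.RedSubgroup.exists_redSubgroup (Red.bc φ G)
  haveI := hr; haveI := hrc; haveI := hRr; haveI := hrs; haveI := hRl; haveI := hRq
  haveI : Smooth R.hom := GrpSchLib.smooth_of_perfectField_of_isReduced R
  haveI : Mono r := Over.mono_of_mono_left _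
  haveI : IsLocallyNoetherian R.left := LocallyOfFiniteType.isLocallyNoetherian R.hom
  obtain ⟨R₁, _, i₁, hi₁, hi₁c, hi₁f, -, hR₁g, hR₁c⟩ := GrpSchLib.exists_identityComponent (G := R)
  haveI := hi₁; haveI := hi₁c; haveI := hi₁f; haveI := hR₁g; haveI := hR₁c
  haveI : IsOpenImmersion i₁.left := IsOpenImmersion.of_flat_of_mono i₁.left
  haveI : Smooth R₁.hom := by rw [← Over.w i₁]; infer_instance
  haveI : QuasiCompact R₁.hom := by rw [← Over.w i₁]; infer_instance
  haveI : IrreducibleSpace R₁.left := GeometricallyIrreducible.irreducibleSpace_of_subsingleton R₁.hom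
  obtain ⟨L, _, j, A, _, α, hab, -, hu⟩ := AlbQuotLib.exists_albanese (G := R₁)
  haveI := hab.hi; haveI := hab.ci; haveI := hab.prop; haveI := hab.smooth; haveI := hab.conn; haveI := hab.hα
  haveI := hab.surj; haveI := hab.flat
  obtain ⟨hjn, hLa, hLc, ⟨QR, _, qR, hqR, hqRs, hqRf, hqRk, hQRp⟩, hLkill⟩ :=
    albanese_kernel R R₁ i₁ A α (fun B _ _ _ _ f hf => (hu B f hf).1) L j hab.ker
  haveI := hLa; haveI := hLc; haveI := hqR; haveI := hqRs; haveI := hqRf; haveI := hQRp
  let l : L ⟶ Red.bc φ G := (j ≫ i₁) ≫ r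
  haveI : IsMonHom l := inferInstanceAs (IsMonHom ((j ≫ i₁) ≫ r))
  haveI : IsClosedImmersion l.left := inferInstanceAs (IsClosedImmersion ((j.left ≫ i₁.left) ≫ r.left))
  obtain ⟨F₁, hF₁, hlev₁⟩ := exists_level (K := K) G.hom l.left
  obtain ⟨F₂, hF₂, hlev₂⟩ := exists_level (K := K) G.hom r.left
  haveI := hF₁; haveI := hF₂
  let F : IntermediateField k K := F₁ ⊔ F₂
  haveI : FiniteDimensional k F := inferInstanceAs (FiniteDimensional k ↥(F₁ ⊔ F₂))
  obtain ⟨L₀, l₀, e, hl₀, sq⟩ := hlev₁ F le_sup_left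
  obtain ⟨R₀, r₀, eR, hr₀, sqR⟩ := hlev₂ F le_sup_right
  haveI := hl₀; haveI := hr₀
  haveI : IsPurelyInseparable k F := IsPurelyInseparable.tower_bot k F K
  let σ : Spec (CommRingCat.of F) ⟶ Spec (CommRingCat.of k) := Spec.map (CommRingCat.ofHom (algebraMap k F))
  let χ : Spec (CommRingCat.of K) ⟶ Spec (CommRingCat.of F) := Spec.map (CommRingCat.ofHom (algebraMap F K))
  have hχσ : χ ≫ σ = φ := by
    simp only [χ, σ, φ, ← Spec.map_comp, ← CommRingCat.ofHom_comp, ← IsScalarTower.algebraMap_eq]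
  haveI : IsSeparated σ := inferInstance
  haveI : QuasiCompact χ := inferInstance
  haveI : Flat χ := (HasRingHomProperty.Spec_iff (P := @Flat)).2 (RingHom.flat_algebraMap_iff.mpr inferInstance)
  haveI : Flat σ := (HasRingHomProperty.Spec_iff (P := @Flat)).2 (RingHom.flat_algebraMap_iff.mpr inferInstance)
  haveI : Flat φ := (HasRingHomProperty.Spec_iff (P := @Flat)).2 (RingHom.flat_algebraMap_iff.mpr inferInstance)
  haveI : Surjective χ := ⟨fun x => ⟨IsLocalRing.closedPoint K, Subsingleton.elim _ _⟩⟩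
  haveI : Surjective σ := ⟨fun x => ⟨IsLocalRing.closedPoint F, Subsingleton.elim _ _⟩⟩
  haveI : Surjective φ := ⟨fun x => ⟨IsLocalRing.closedPoint K, Subsingleton.elim _ _⟩⟩
  let W : Scheme.{u} := pullback G.hom σ
  haveI : IsLocallyNoetherian W := LocallyOfFiniteType.isLocallyNoetherian (pullback.snd G.hom σ)
  haveI : CompactSpace W := QuasiCompact.compactSpace_of_compactSpace (pullback.snd G.hom σ)
  haveI : IsNoetherian W := ⟨⟩
  obtain ⟨N, hN⟩ := H23.FinCondSch.isNilpotent_nilradical (X := W)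
  let n := max (IsPurelyInseparable.exponent k F) N
  have hNn : N ≤ p ^ n := (le_max_right _ _).trans (Nat.lt_pow_self (Fact.out : p.Prime).one_lt).le
  let ri : F →+* k := IsPurelyInseparable.iterateFrobenius k F p (le_max_left _ _ : _ ≤ n)
  let ρ : Spec (CommRingCat.of k) ⟶ Spec (CommRingCat.of F) := Spec.map (CommRingCat.ofHom ri)
  haveI hchar : ∀ Y : Sch, FrobSch.IsCharP Y.left p := fun Y => FrobSch.IsCharP.of_hom Y.hom p
  let Fr : ∀ Y : Sch, Y.left ⟶ Y.left := fun Y => FrobSch.frobIter Y.left p n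
  have hρσ : ρ ≫ σ = FrobSch.frobIter (Spec (CommRingCat.of k)) p n := by
    have h := spec_map_frobIter p n (RingHom.id k) (ri.comp (algebraMap k F)) fun a => by
      simp only [RingHom.comp_apply, RingHom.id_apply, ri]
      exact IsPurelyInseparable.iterateFrobenius_algebraMap F p (le_max_left _ _) a
    simp only [CommRingCat.ofHom_id, Spec.map_id, Category.comp_id] at h
    rw [h, ← Spec.map_comp, ← CommRingCat.ofHom_comp]
  have hsq := sq.paste_vert (isPullback_levelMap G.hom F)
  haveI : IsAffine L₀ := by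
    haveI := EtFound.fpqc_isAffineHom.{u}
    haveI : IsAffineHom (l.left ≫ pullback.snd G.hom φ) := inferInstance
    haveI : IsAffineHom (l₀ ≫ pullback.snd G.hom σ) := MorphismProperty.of_isPullback_of_descendsAlong
      (P := @IsAffineHom) (Q := (@Surjective ⊓ @Flat ⊓ @QuasiCompact : MorphismProperty Scheme.{u}))
      hsq.flip ⟨⟨‹Surjective χ›, ‹Flat χ›⟩, ‹QuasiCompact χ›⟩ ‹_›
    exact isAffine_of_isAffineHom (l₀ ≫ pullback.snd G.hom σ)
  haveI : Surjective (levelMap G.hom F) :=
    MorphismProperty.of_isPullback (P := @Surjective) (isPullback_levelMap G.hom F).flip ‹Surjective χ›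
  haveI : Surjective r₀ := by
    haveI : Surjective (eR ≫ r₀) := by rw [sqR.w]; infer_instance
    exact Surjective.of_comp eR r₀
  haveI : FrobSch.IsCharP W p := hchar (Over.mk (pullback.fst G.hom σ ≫ G.hom))
  have hker : r₀.ker ≤ (FrobSch.frobIter W p n).ker := by
    have hsupp : (⊤ : TopologicalSpace.Closeds W) ≤ r₀.ker.support := by
      intro x _
      show x ∈ (r₀.ker.support : Set W)
      rw [Scheme.Hom.support_ker]
      obtain ⟨y, rfl⟩ := r₀.surjective x
      exact subset_closure ⟨y, rfl⟩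
    have hnil : r₀.ker ≤ W.nilradical := by
      rw [← Scheme.IdealSheafData.vanishingIdeal_top]
      exact Scheme.IdealSheafData.le_support_iff_le_vanishingIdeal.mp hsupp
    refine le_trans hnil fun U s hs => ?_
    haveI := isAffineHom_frobIter p W n
    rw [Scheme.Hom.ker_apply, RingHom.mem_ker]
    have h1 : (W.nilradical ^ N).ideal U = ⊥ := by rw [hN]; rfl
    rw [Scheme.IdealSheafData.ideal_pow, Pi.pow_apply] at h1
    have h2 : s ^ N = 0 := by
      have h3 := Ideal.pow_mem_pow hs N
      rwa [h1] at h3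
    have h4 := frobIter_app_eq_zero p W U.1 n 0 s (by rw [Nat.add_zero]; exact pow_eq_zero_of_le hNn h2)
    rw [pow_zero, pow_one] at h4
    exact h4
  obtain ⟨H, _, h, hh, hhc, hhn, hHa, t, ht, hts⟩ := exists_subgroup_twist φ σ χ ρ Fr hχσ
    (fun Y => by rw [frobIter_comp p Y.hom n, hρσ])
    (fun {Y Y'} f => frobIter_comp p f.left n)
    (by
      haveI : FrobSch.IsCharP (Spec (CommRingCat.of F)) p := hchar (Over.mk σ)
      show FrobSch.frobIter (Spec (CommRingCat.of F)) p n = σ ≫ ρ
      have h := spec_map_frobIter p n (RingHom.id F) ((algebraMap k F).comp ri) fun a => by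
        simp only [RingHom.comp_apply, RingHom.id_apply, ri]
        exact IsPurelyInseparable.algebraMap_iterateFrobenius k p (le_max_left _ _) a
      simp only [CommRingCat.ofHom_id, Spec.map_id, Category.comp_id] at h
      rw [h, CommRingCat.ofHom_comp, Spec.map_comp])
    (fun Y y => frobIter_apply p Y.left n y)
    G (isAffineHom_frobIter p G.left n) r₀
    ⟨IsClosedImmersion.lift r₀ (FrobSch.frobIter W p n) hker, IsClosedImmersion.lift_fac _ _ _⟩
    l (fun T g a hz => by
      obtain ⟨z, hz⟩ := hz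
      let gR : T ⟶ R := Over.homMk (sqR.lift z g.left hz) (by
        rw [← Over.w r, IsPullback.lift_snd_assoc, Over.w g])
      have hgR : gR ≫ r = g := Over.OverMorphism.ext (sqR.lift_snd _ _ _)
      obtain ⟨b, hb⟩ := hjn T gR a
      refine ⟨b, ?_⟩
      show g * (a ≫ (j ≫ i₁) ≫ r) * g⁻¹ = b ≫ (j ≫ i₁) ≫ r
      rw [← Category.assoc b, ← hb, MonObj.mul_comp, MonObj.mul_comp, GrpObj.inv_comp, hgR]
      simp only [Category.assoc])
    l₀ e sq
  haveI := hh; haveI := hhc; haveI := hHa; haveI := hts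
  haveI : Mono h := Over.mono_of_mono_left _
  haveI : LocallyOfFiniteType H.hom := by rw [← Over.w h]; infer_instance
  obtain ⟨Q, _, q, hq, hqf, hqs, hqp, hQl, -, hk⟩ := GrpQuotLib.exists_quotientGrp h hhn
  haveI := hq; haveI := hqf; haveI := hqs; haveI := hqp; haveI := hQl
  obtain ⟨-, hQqc, -⟩ := GrpQuotLib.props_of_cover ⟨hqf, hqs, hqp⟩
  haveI : QuasiCompact Q.hom := hQqc inferInstance
  haveI := GrpSchLib.AntiAffine.isSeparated_grp Q
  have htheta1 : ∀ {P : Sch} [GrpObj P] {T : Over (Spec (CommRingCat.of K))},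
      DSPtsLib.theta φ (1 : T ⟶ Red.bc φ P) = 1 := by
    intro P _ T
    have h0 := DSPtsLib.theta_mul φ (1 : T ⟶ Red.bc φ P) 1
    rw [_root_.one_mul, left_eq_mul] at h0
    exact h0
  have htheta2 : ∀ {X Y : Sch} {T : Over (Spec (CommRingCat.of K))} (a : T ⟶ Red.bc φ X) (f : X ⟶ Y),
      DSPtsLib.theta φ (a ≫ (Over.pullback φ).map f) = DSPtsLib.theta φ a ≫ f := fun a f =>
    (Over.mapPullbackAdj φ).homEquiv_naturality_right_symm a f
  haveI hQp : IsProper Q.hom := by
    haveI : LocallyOfFiniteType (Red.bc φ Q).hom := inferInstanceAs (LocallyOfFiniteType (pullback.snd Q.hom φ))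
    haveI : QuasiCompact (Red.bc φ Q).hom := inferInstanceAs (QuasiCompact (pullback.snd Q.hom φ))
    haveI : IsSeparated (Red.bc φ Q).hom := inferInstanceAs (IsSeparated (pullback.snd Q.hom φ))
    haveI : Surjective ((Over.pullback φ).map q).left :=
      (MorphismProperty.baseChange_map φ q ‹Surjective q.left› :)
    let f := r ≫ (Over.pullback φ).map q
    haveI : IsMonHom f := inferInstanceAs (IsMonHom (r ≫ (Over.pullback φ).map q))
    haveI : Surjective f.left := inferInstanceAs (Surjective (r.left ≫ ((Over.pullback φ).map q).left))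
    have hlf : (j ≫ i₁) ≫ f = 1 := by
      apply (DSPtsLib.theta_bijective φ).1
      show DSPtsLib.theta φ ((j ≫ i₁) ≫ r ≫ (Over.pullback φ).map q) = _
      rw [← Category.assoc (j ≫ i₁), htheta2, htheta1, ← ht, Category.assoc, hk.w, ← Category.assoc,
        comp_toUnit, Hom.one_def]
    haveI : IsMonHom (j ≫ i₁) := inferInstance
    obtain ⟨v, -, hqv, -⟩ := S3280.result K R L QR (Red.bc φ Q) qR (j ≫ i₁) hqRk f (hlf.trans Hom.one_def)
    haveI : Surjective v.left := by
      haveI : Surjective (qR.left ≫ v.left) := by rw [← Over.comp_left, hqv]; infer_instance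
      exact Surjective.of_comp qR.left v.left
    haveI : IsProper (Red.bc φ Q).hom := isProper_of_surjective v
    haveI := EtFound.fpqc_isProper.{u}
    exact MorphismProperty.of_pullback_snd_of_descendsAlong (P := @IsProper)
      (Q := (@Surjective ⊓ @Flat ⊓ @QuasiCompact : MorphismProperty Scheme.{u})) (g := φ)
      ⟨⟨‹Surjective φ›, ‹Flat φ›⟩, inferInstance⟩ (inferInstanceAs (IsProper (Red.bc φ Q).hom))
  refine ⟨H, inferInstance, h, Q, inferInstance, q, ⟨hh, hhc, hhn, hHa, hq, hqs, hqf, hk, hQp⟩,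
    (Over.map φ).obj L, t, hLc, hts, ?_⟩
  intro Q' _ _ q' _
  rw [← Category.assoc, ht, ← htheta2]
  haveI : IsProper (Red.bc φ Q').hom := inferInstanceAs (IsProper (pullback.snd Q'.hom φ))
  let f := r ≫ (Over.pullback φ).map q'
  haveI : IsMonHom f := inferInstanceAs (IsMonHom (r ≫ (Over.pullback φ).map q'))
  obtain ⟨I, _, pI, b, hpI, hbm, hb, hpb, hpf, hps, hIp⟩ := exists_proper_image f
  haveI := hpI; haveI := hb; haveI := hpf; haveI := hps; haveI := hIp
  have hl1 : l ≫ (Over.pullback φ).map q' = 1 := by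
    show ((j ≫ i₁) ≫ r) ≫ (Over.pullback φ).map q' = 1
    rw [Category.assoc (j ≫ i₁), show r ≫ (Over.pullback φ).map q' = pI ≫ b from hpb.symm,
      ← Category.assoc (j ≫ i₁), hLkill I pI, MonObj.one_comp]
  rw [hl1, htheta1]

/-- The smallest normal subgroup scheme with proper quotient. -/
theorem exists_smallest_quot (G : Sch) [GrpObj G] [LocallyOfFiniteType G.hom] [QuasiCompact G.hom] :
    ∃ (N : Sch) (_ : GrpObj N) (i : N ⟶ G) (Q : Sch) (_ : GrpObj Q) (q : G ⟶ Q), AffQuot i q ∧ ConnectedSpace N.left ∧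
      ∀ (Q' : Sch) [GrpObj Q'] [IsProper Q'.hom] (q' : G ⟶ Q') [IsMonHom q'], i ≫ q' = 1 := by
  haveI := GrpSchLib.AntiAffine.isSeparated_grp G
  obtain ⟨p, hp⟩ := ExpChar.exists k
  cases hp with
  | zero =>
    haveI : Smooth G.hom := GrpSchLib.smooth_of_charZero G
    haveI : IsLocallyNoetherian G.left := LocallyOfFiniteType.isLocallyNoetherian G.hom
    obtain ⟨G₀, _, i₀, hi₀, hi₀c, hi₀f, -, hG₀g, hG₀c⟩ := GrpSchLib.exists_identityComponent (G := G)
    haveI := hi₀; haveI := hi₀c; haveI := hi₀f; haveI := hG₀g; haveI := hG₀c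
    haveI : IsOpenImmersion i₀.left := IsOpenImmersion.of_flat_of_mono i₀.left
    haveI : Smooth G₀.hom := by rw [← Over.w i₀]; infer_instance
    haveI : QuasiCompact G₀.hom := by rw [← Over.w i₀]; infer_instance
    haveI : IrreducibleSpace G₀.left := GeometricallyIrreducible.irreducibleSpace_of_subsingleton G₀.hom
    obtain ⟨N, _, j, A, _, α, hab, -, hu⟩ := AlbQuotLib.exists_albanese (G := G₀)
    haveI := hab.hi; haveI := hab.ci; haveI := hab.prop; haveI := hab.smooth; haveI := hab.conn; haveI := hab.hα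
    haveI := hab.surj; haveI := hab.flat
    obtain ⟨hn, ha, hc, ⟨Q, _, q, hq, hqs, hqf, hqk, hQp⟩, hkill⟩ :=
      albanese_kernel G G₀ i₀ A α (fun B _ _ _ _ f hf => (hu B f hf).1) N j hab.ker
    refine ⟨N, inferInstance, j ≫ i₀, Q, inferInstance, q, ⟨inferInstance,
      inferInstanceAs (IsClosedImmersion (j.left ≫ i₀.left)), hn, ha, hq, hqs, hqf, hqk, hQp⟩, hc, ?_⟩
    intro Q' _ _ q' _
    obtain ⟨I, _, pI, b, hpI, hbm, hb, hpb, hpf, hps, hIp⟩ := exists_proper_image q'
    haveI := hpI; haveI := hb; haveI := hpf; haveI := hps; haveI := hIp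
    rw [← hpb, ← Category.assoc, hkill I pI, MonObj.one_comp]
  | prime hprime =>
    haveI : Fact p.Prime := ⟨hprime⟩
    obtain ⟨H, _, h, QH, _, qH, hH, X, t, hXc, hts, htk⟩ := exists_affQuot_charP p G
    haveI : IsLocallyNoetherian G.left := LocallyOfFiniteType.isLocallyNoetherian G.hom
    haveI : CompactSpace G.left := QuasiCompact.compactSpace_of_compactSpace G.hom
    haveI : IsNoetherian G.left := ⟨⟩
    haveI := H23.FinCondSch.wellFoundedGT (X := G.left)
    let S : Set G.left.IdealSheafData := {I | ∃ (N : Sch) (_ : GrpObj N) (i : N ⟶ G) (Q : Sch) (_ : GrpObj Q)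
      (q : G ⟶ Q), AffQuot i q ∧ i.left.ker = I}
    obtain ⟨I, ⟨N, _, i, Q, _, q, hiq, hI⟩, hmax⟩ := WellFounded.has_min
      (IsWellFounded.wf (r := ((· > ·) : G.left.IdealSheafData → G.left.IdealSheafData → Prop))) S
      ⟨_, H, inferInstance, h, QH, inferInstance, qH, hH, rfl⟩
    obtain ⟨hi, hic, hin, hNa, hq, hqs, hqf, hk, hQp⟩ := id hiq
    haveI := hi; haveI := hic; haveI := hNa; haveI := hq; haveI := hqs; haveI := hqf; haveI := hQp
    haveI : Mono i := Over.mono_of_mono_left _
    have hkill : ∀ (Q' : Sch) [GrpObj Q'] [IsProper Q'.hom] (q' : G ⟶ Q') [IsMonHom q'], i ≫ q' = 1 := by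
      intro Q' _ _ q' _
      haveI : IsProper (Q ⊗ Q').hom := inferInstanceAs (IsProper (pullback.fst Q.hom Q'.hom ≫ Q.hom))
      haveI : IsMonHom (lift q q') := inferInstance
      obtain ⟨B, _, pB, b, hpB, hbm, hb, hpb, hpf, hps, hBp⟩ := exists_proper_image (lift q q')
      haveI := hpB; haveI := hb; haveI := hpf; haveI := hps; haveI := hBp; haveI := hbm
      obtain ⟨N', _, i', hi', hi'c, hi'n, hk'⟩ := GrpSchLib.exists_kernel pB
      haveI := hi'; haveI := hi'c
      have h1 : i' ≫ lift q q' = 1 := by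
        rw [← hpb, reassoc_of% hk'.w, ← Category.assoc, Category.assoc, IsMonHom.one_hom b, Hom.one_def]
      have h2 : i' ≫ q = 1 := by
        have := congrArg (· ≫ fst Q Q') h1
        simpa only [Category.assoc, lift_fst, MonObj.one_comp] using this
      have h3 : i' ≫ q' = 1 := by
        have := congrArg (· ≫ snd Q Q') h1
        simpa only [Category.assoc, lift_snd, MonObj.one_comp] using this
      let a := hk.lift i' (toUnit N') (h2.trans Hom.one_def)
      have ha : a ≫ i = i' := hk.lift_fst _ _ _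
      haveI : IsClosedImmersion (a.left ≫ i.left) := by rw [← Over.comp_left, ha]; infer_instance
      haveI : IsClosedImmersion a.left := IsClosedImmersion.of_comp a.left i.left
      have hle : I ≤ i'.left.ker := by rw [← hI, ← ha]; exact a.left.le_ker_comp i.left
      have heq : i'.left.ker = I := by
        rcases hle.lt_or_eq with hlt | heq
        · exact absurd hlt (hmax _ ⟨N', inferInstance, i', B, inferInstance, pB,
            ⟨hi', hi'c, hi'n, isAffine_of_isAffineHom a.left, hpB, hps, hpf, hk', hBp⟩, rfl⟩)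
        · exact heq.symm
      have hle' : i'.left.ker ≤ i.left.ker := (heq.trans hI.symm).le
      let c : N ⟶ N' := Over.homMk (IsClosedImmersion.lift i'.left i.left hle') (by
        rw [← Over.w i', IsClosedImmersion.lift_fac_assoc, Over.w])
      have hc : c ≫ i' = i := Over.OverMorphism.ext (IsClosedImmersion.lift_fac _ _ _)
      rw [← hc, Category.assoc, h3, MonObj.comp_one]
    refine ⟨N, inferInstance, i, Q, inferInstance, q, hiq, ?_, hkill⟩
    obtain ⟨hh, hhc, -, -, hqH, -, -, hkH, hQHp⟩ := id hH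
    haveI := hh; haveI := hhc; haveI := hqH; haveI := hQHp; haveI := hXc; haveI := hts
    let a := hkH.lift i (toUnit N) ((hkill QH qH).trans Hom.one_def)
    have ha : a ≫ h = i := hkH.lift_fst _ _ _
    let z := hk.lift (t ≫ h) (toUnit X) (((Category.assoc t h q).trans (htk Q q)).trans Hom.one_def)
    have hz : z ≫ i = t ≫ h := hk.lift_fst _ _ _
    haveI : Mono h := Over.mono_of_mono_left _
    have hza : z ≫ a = t := by rw [← cancel_mono h, Category.assoc, ha, hz]
    haveI : IsClosedImmersion (a.left ≫ h.left) := by rw [← Over.comp_left, ha]; infer_instance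
    haveI : IsClosedImmersion a.left := IsClosedImmersion.of_comp a.left h.left
    have hs : Function.Surjective z.left := fun x => by
      obtain ⟨y, hy⟩ := t.left.surjective (a.left x)
      refine ⟨y, a.left.isClosedEmbedding.injective ?_⟩
      rw [← hy, ← Scheme.Hom.comp_apply, ← Over.comp_left, hza]
    exact hs.connectedSpace z.left.continuous

end Groth.Agent.Chevalley.BC
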