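import Groth.Agent.Chevalley.BC.Comp0
import Groth.Agent.Chevalley.Val.NonConst
import Groth.Agent.Chevalley.AbSubvariety
import Groth.Agent.GrpSchLib.AdjointCentre
import Groth.Agent.GrpSchLib.Affinization
import Groth.Agent.GrpSchLib.AffToProper
import Groth.Agent.LargeNormal.Galois
import Groth.Agent.AlgStLib.MonoQuotGrp
import Groth.Agent.EtFound.Descent
import Groth.Agent.S18068
import Groth.Agent.S10839

/-!
The theorem of Barsotti and Chevalley over an algebraically closed field.
-/

universe u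

set_option backward.isDefEq.respectTransparency false
set_option linter.style.haveILetI false
set_option maxHeartbeats 1000000
set_option synthInstance.maxHeartbeats 200000

noncomputable section

open CategoryTheory CategoryTheory.Limits AlgebraicGeometry MonoidalCategory CartesianMonoidalCategory
open scoped MonObj

namespace Groth.Agent.Chevalley.BC

open Val (pp val)

variable {k : Type u} [Field k]

theorem isCommMonObj_of_mono {G H : Over (Spec (CommRingCat.of k))} [GrpObj G] [GrpObj H] (h : H ⟶ G) [IsMonHom h]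
    [Mono h] (hc : ∀ (T : Over (Spec (CommRingCat.of k))) (a b : T ⟶ H), (a ≫ h) * (b ≫ h) = (b ≫ h) * (a ≫ h)) :
    IsCommMonObj H := by
  refine ⟨?_⟩
  have e : μ[H] = fst H H * snd H H := by rw [Hom.mul_def, lift_fst_snd, Category.id_comp]
  rw [e, ← cancel_mono h, Category.assoc, MonObj.mul_comp, MonObj.comp_mul, ← Category.assoc (β_ H H).hom,
    ← Category.assoc (β_ H H).hom (snd H H), braiding_hom_fst, braiding_hom_snd]
  exact hc _ (snd H H) (fst H H)

theorem eq_one_of_trivial {N X : Over (Spec (CommRingCat.of k))} [GrpObj N] [GrpObj X] (hN : IsIso η[N]) (f : N ⟶ X)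
    [IsMonHom f] : f = 1 := by
  have h : 𝟙 N = toUnit N ≫ η[N] := by
    rw [← cancel_epi η[N], Category.comp_id, ← Category.assoc, toUnit_unique (η[N] ≫ toUnit N) (𝟙 _), Category.id_comp]
  rw [← Category.id_comp f, h, Category.assoc, IsMonHom.one_hom f]
  rfl

variable [IsAlgClosed k]

theorem dim_lt {G H : Over (Spec (CommRingCat.of k))} [GrpObj G] [GrpObj H] [Smooth G.hom] [QuasiCompact G.hom]
    [ConnectedSpace G.left] [Smooth H.hom] [QuasiCompact H.hom] [ConnectedSpace H.left] (h : H ⟶ G)
    [IsClosedImmersion h.left] (hni : ¬ IsIso h.left) {r : ℕ} (hr : topologicalKrullDim G.left = r) :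
    ∃ r' : ℕ, r' < r ∧ topologicalKrullDim H.left = r' := by
  haveI : Nonempty H.left := ⟨η[H].left (IsLocalRing.closedPoint k)⟩
  haveI := S18068.isIntegral_grp G
  obtain ⟨r', hr'⟩ := GrpQuotLib.exists_nat_dim (A := k) (F := H)
  refine ⟨r', lt_of_le_of_ne ?_ fun e => hni ?_, hr'⟩
  · have := h.left.isClosedEmbedding.isInducing.topologicalKrullDim_le
    rw [hr', hr] at this
    exact_mod_cast this
  · exact S10839.result h.left (by rw [hr]; exact (WithBot.coe_injective.ne (ENat.coe_ne_top r))) (by rw [hr, hr', e])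

/-- A homomorphism to an affine group with finite kernel has affine source. -/
theorem isAffine_of_finite_kernel {G H K : Over (Spec (CommRingCat.of k))} [GrpObj G] [GrpObj H] [GrpObj K]
    [LocallyOfFiniteType G.hom] [QuasiCompact G.hom] [LocallyOfFiniteType H.hom] [QuasiCompact H.hom] [IsAffine H.left]
    (f : G ⟶ H) [IsMonHom f] (κ : K ⟶ G) (hk : AlgGrp.IsKernel κ f) [IsFinite K.hom] : IsAffine G.left := by
  obtain ⟨I, _, p, i, hp, hi, hpi, hic, hpf, hps, hIl, hIq⟩ := GrpSchLib.ImageFactor.exists_image f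
  haveI := hp; haveI := hi; haveI := hic; haveI := hpf; haveI := hps; haveI := hIl; haveI := hIq
  haveI := GrpSchLib.AntiAffine.isSeparated_grp I
  haveI : Mono i := Over.mono_of_mono_left _
  have hkp : AlgGrp.IsKernel κ p := AlgStLib.MonoFactor.isPullback_of_mono hpi (IsMonHom.one_hom i) hk
  haveI : IsAffine I.left := isAffine_of_isAffineHom i.left
  haveI : QuasiCompact (p.left ≫ I.hom) := by rw [Over.w p]; infer_instance
  haveI : QuasiCompact p.left := QuasiCompact.of_comp p.left I.hom
  haveI := EtFound.fpqc_isAffineHom.{u}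
  haveI : IsAffineHom p.left := S7982.property_of_kernel κ p hkp @IsAffineHom inferInstance
  exact isAffine_of_isAffineHom p.left

/-- No non-trivial smooth connected affine subgroup. -/
def NoAff (C : Over (Spec (CommRingCat.of k))) [GrpObj C] : Prop :=
  ∀ (H : Over (Spec (CommRingCat.of k))) [GrpObj H] (h : H ⟶ C) [IsMonHom h] [IsClosedImmersion h.left]
    [Smooth H.hom] [ConnectedSpace H.left] [IsAffine H.left], IsIso η[H]

omit [IsAlgClosed k] in
theorem NoAff.of_sub {C H : Over (Spec (CommRingCat.of k))} [GrpObj C] [GrpObj H] (hC : NoAff C) (h : H ⟶ C)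
    [IsMonHom h] [IsClosedImmersion h.left] : NoAff H := fun B _ b _ _ _ _ _ => by
  haveI : IsClosedImmersion (b ≫ h).left := inferInstanceAs (IsClosedImmersion (b.left ≫ h.left))
  exact hC B (b ≫ h)

omit [IsAlgClosed k] in
theorem isProper_of_trivial {C : Over (Spec (CommRingCat.of k))} [GrpObj C] (h : IsIso η[C]) : IsProper C.hom := by
  haveI : IsIso η[C].left := ((Over.forget _).mapIso (asIso η[C])).isIso_hom
  rw [show C.hom = inv η[C].left from (IsIso.eq_inv_of_hom_inv_id (Over.w η[C]))]
  infer_instance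

theorem val_eq_of_factor {C I : Over (Spec (CommRingCat.of k))} (p : C ⟶ I) (r : Γ(I.left, ⊤))
    (a : 𝟙_ (Over (Spec (CommRingCat.of k))) ⟶ C) :
    val a (U := (⊤ : C.left.Opens)) trivial (p.left.appTop.hom r) = val (a ≫ p) (U := (⊤ : I.left.Opens)) trivial r := by
  have e : (⊤ : C.left.Opens) ≤ p.left ⁻¹ᵁ ⊤ := le_rfl
  have h : p.left.appLE ⊤ ⊤ e = p.left.appTop := Scheme.Hom.appLE_eq_app _
  rw [← h]
  exact Val.val_pullback p a e trivial r

/-- A simple commutative group without affine subgroups is proper. -/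
theorem isProper_of_simple {C : Over (Spec (CommRingCat.of k))} [GrpObj C] [IsCommMonObj C] [Smooth C.hom]
    [QuasiCompact C.hom] [ConnectedSpace C.left] (hna : NoAff C)
    (hsimple : ∀ (H : Over (Spec (CommRingCat.of k))) [GrpObj H] (h : H ⟶ C) [IsMonHom h] [IsClosedImmersion h.left]
      [Smooth H.hom] [ConnectedSpace H.left], IsIso η[H] ∨ IsIso h.left) : IsProper C.hom := by
  haveI := GrpSchLib.AntiAffine.isSeparated_grp C
  haveI := S18068.isIntegral_grp C
  by_contra hnp
  obtain ⟨s, a, a', hs⟩ := Val.exists_nonconst hsimple hnp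
  obtain ⟨I, _, p, hp, hI, hIl, hpf, hps, hpb⟩ := GrpSchLib.Affinization.exists_affinization C
  haveI := hp; haveI := hI; haveI := hIl; haveI := hpf; haveI := hps
  haveI := GrpSchLib.AntiAffine.isSeparated_grp I
  obtain ⟨K, _, κ, hκ, hκc, -, hk⟩ := GrpSchLib.exists_kernel p
  haveI := hκ; haveI := hκc
  haveI : LocallyOfFiniteType K.hom := by rw [← Over.w κ]; infer_instance
  haveI : QuasiCompact K.hom := by rw [← Over.w κ]; infer_instance
  obtain ⟨N, _, c, hc, hcc, hNs, hNq, hNc, hcr⟩ := exists_comp K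
  haveI := hc; haveI := hcc; haveI := hNs; haveI := hNq; haveI := hNc
  haveI : IsClosedImmersion (c ≫ κ).left := inferInstanceAs (IsClosedImmersion (c.left ≫ κ.left))
  rcases hsimple N (c ≫ κ) with hN | hN
  · haveI := isFinite_of_isIso K c hcr hN
    haveI := isAffine_of_finite_kernel p κ hk
    haveI : IsClosedImmersion (𝟙 C : C ⟶ C).left := by rw [Over.id_left]; infer_instance
    exact hnp (isProper_of_trivial (hna C (𝟙 C)))
  · haveI : IsIso (c ≫ κ) := by
      haveI : IsIso ((Over.forget _).map (c ≫ κ)) := hN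
      exact isIso_of_reflects_iso (c ≫ κ) (Over.forget _)
    have hp1 : p = 1 := by
      rw [← cancel_epi (c ≫ κ), Category.assoc, show κ ≫ p = 1 from hk.w.trans Hom.one_def.symm, MonObj.comp_one,
        MonObj.comp_one]
    obtain ⟨r, rfl⟩ := hpb.2 s
    refine hs ?_
    rw [val_eq_of_factor, val_eq_of_factor]
    exact Val.val_congr (by rw [hp1, MonObj.comp_one, MonObj.comp_one]) _ _ _

theorem surjective_of_comp_pow {C H : Over (Spec (CommRingCat.of k))} [GrpObj H] [IsProper H.hom] [Smooth H.hom]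
    [ConnectedSpace H.left] (i : H ⟶ C) (φ : C ⟶ H) {n : ℕ} (hn : 0 < n) (h : i ≫ φ = 𝟙 H ^ n) : Surjective φ.left := by
  obtain ⟨_, _⟩ := abVar_props (A := H)
  haveI : Surjective (i.left ≫ φ.left) := by rw [← Over.comp_left, h]; exact AVMulN.surjective_pow n hn
  exact Surjective.of_comp i.left φ.left

/-- Properness passes from the kernel of a surjection onto a proper group. -/
theorem isProper_of_kernel {C H K : Over (Spec (CommRingCat.of k))} [GrpObj C] [GrpObj H]
    [LocallyOfFiniteType C.hom] [QuasiCompact C.hom] [IsProper H.hom] [Smooth H.hom] (φ : C ⟶ H) [IsMonHom φ]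
    [Surjective φ.left] (κ : K ⟶ C) (hk : AlgGrp.IsKernel κ φ) [IsProper K.hom] : IsProper C.hom := by
  haveI : QuasiCompact (φ.left ≫ H.hom) := by rw [Over.w φ]; infer_instance
  haveI : QuasiCompact φ.left := QuasiCompact.of_comp φ.left H.hom
  haveI : AlgebraicGeometry.IsReduced H.left := GrpSchLib.isReduced_of_smooth_field H.hom
  haveI : Flat φ.left := GrpSchLib.flat_of_surjective_hom φ
  haveI := EtFound.fpqc_isProper.{u}
  haveI : IsProper φ.left := S7982.property_of_kernel κ φ hk @IsProper inferInstance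
  rw [← Over.w φ]
  infer_instance

/-- A commutative group variety without affine subgroups is proper. -/
theorem isProper_of_noAff_aux (r : ℕ) : ∀ (C : Over (Spec (CommRingCat.of k))) [GrpObj C] [IsCommMonObj C]
    [Smooth C.hom] [QuasiCompact C.hom] [ConnectedSpace C.left], topologicalKrullDim C.left = r → NoAff C →
    IsProper C.hom := by
  induction r using Nat.strong_induction_on with
  | _ r ih =>
    intro C _ _ _ _ _ hr hna
    haveI := GrpSchLib.AntiAffine.isSeparated_grp C
    by_cases hsimple : ∀ (H : Over (Spec (CommRingCat.of k))) [GrpObj H] (h : H ⟶ C) [IsMonHom h]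
        [IsClosedImmersion h.left] [Smooth H.hom] [ConnectedSpace H.left], IsIso η[H] ∨ IsIso h.left
    · exact isProper_of_simple hna hsimple
    push Not at hsimple
    obtain ⟨H, _, h, _, _, _, _, hH1, hH2⟩ := hsimple
    haveI : QuasiCompact H.hom := by rw [← Over.w h]; infer_instance
    haveI : Mono h := Over.mono_of_mono_left _
    haveI := isCommMonObj_of_mono h fun T a b => mul_comm _ _
    obtain ⟨r', hr', hdim⟩ := dim_lt h hH2 hr
    haveI : IsProper H.hom := ih r' hr' H hdim (hna.of_sub h)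
    obtain ⟨φ, n, hφ, hn, hhφ⟩ := exists_hom h
    haveI := hφ
    haveI := surjective_of_comp_pow h φ hn hhφ
    obtain ⟨K, _, κ, hκ, hκc, -, hk⟩ := GrpSchLib.exists_kernel φ
    haveI := hκ; haveI := hκc
    haveI : LocallyOfFiniteType K.hom := by rw [← Over.w κ]; infer_instance
    haveI : QuasiCompact K.hom := by rw [← Over.w κ]; infer_instance
    obtain ⟨N, _, c, hc, hcc, hNs, hNq, hNc, hcr⟩ := exists_comp K
    haveI := hc; haveI := hcc; haveI := hNs; haveI := hNq; haveI := hNc
    haveI : IsClosedImmersion (c ≫ κ).left := inferInstanceAs (IsClosedImmersion (c.left ≫ κ.left))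
    haveI : Mono (c ≫ κ) := Over.mono_of_mono_left _
    haveI := isCommMonObj_of_mono (c ≫ κ) fun T a b => mul_comm _ _
    have hni : ¬ IsIso (c ≫ κ).left := fun hi => by
      haveI : IsIso ((Over.forget _).map (c ≫ κ)) := hi
      haveI : IsIso (c ≫ κ) := isIso_of_reflects_iso (c ≫ κ) (Over.forget _)
      have hp1 : φ = 1 := by
        rw [← cancel_epi (c ≫ κ), Category.assoc, show κ ≫ φ = 1 from hk.w.trans Hom.one_def.symm, MonObj.comp_one,
          MonObj.comp_one]
      rw [hp1, MonObj.comp_one] at hhφ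
      obtain ⟨_, _⟩ := abVar_props (A := H)
      haveI : Surjective (1 : H ⟶ H).left := by rw [hhφ]; exact AVMulN.surjective_pow n hn
      haveI : Subsingleton ↥(Spec (CommRingCat.of k)) := inferInstanceAs (Subsingleton (PrimeSpectrum k))
      haveI : Subsingleton H.left := ⟨fun x y => by
        obtain ⟨x, rfl⟩ := (1 : H ⟶ H).left.surjective x
        obtain ⟨y, rfl⟩ := (1 : H ⟶ H).left.surjective y
        exact congrArg η[H].left (Subsingleton.elim (α := ↥(Spec (CommRingCat.of k))) _ _)⟩
      haveI : Nonempty H.left := ⟨η[H].left (IsLocalRing.closedPoint k)⟩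
      haveI : IsAffine H.left := by
        obtain ⟨U, hU, hx, -⟩ := exists_isAffineOpen_mem_and_subset
          (show (Classical.arbitrary H.left) ∈ (⊤ : H.left.Opens) from trivial)
        obtain rfl : U = ⊤ := eq_top_iff.mpr fun y _ => (Subsingleton.elim _ y) ▸ hx
        haveI : IsAffine ((⊤ : H.left.Opens) : Scheme.{u}) := hU
        exact IsAffine.of_isIso H.left.topIso.inv
      exact hH1 (hna H h)
    obtain ⟨r'', hr'', hdim'⟩ := dim_lt (c ≫ κ) hni hr
    haveI : IsProper N.hom := ih r'' hr'' N hdim' (hna.of_sub (c ≫ κ))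
    haveI := isProper_of_comp c hcr
    exact isProper_of_kernel φ κ hk

theorem isProper_of_noAff {C : Over (Spec (CommRingCat.of k))} [GrpObj C] [IsCommMonObj C] [Smooth C.hom]
    [QuasiCompact C.hom] [ConnectedSpace C.left] (hna : NoAff C) : IsProper C.hom := by
  haveI : Nonempty C.left := ⟨η[C].left (IsLocalRing.closedPoint k)⟩
  obtain ⟨r, hr⟩ := GrpQuotLib.exists_nat_dim (A := k) (F := C)
  exact isProper_of_noAff_aux r C hr hna

/-- A group variety without good subgroups is proper. -/
theorem isProper_of_noGood {G : Over (Spec (CommRingCat.of k))} [GrpObj G] [Smooth G.hom] [QuasiCompact G.hom]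
    [ConnectedSpace G.left]
    (hG : ∀ (B : Over (Spec (CommRingCat.of k))) [GrpObj B] (b : B ⟶ G), LargeNormal.GoodA b → IsIso η[B]) :
    IsProper G.hom := by
  haveI := GrpSchLib.AntiAffine.isSeparated_grp G
  obtain ⟨Z, _, i, hi, hic, hZ, I, _, q, hq, hI, hIl, hIq, hqf, hqs, hiq⟩ := GrpSchLib.Adjoint.exists_centre_quot G
  haveI := hi; haveI := hic; haveI := hq; haveI := hI; haveI := hIl; haveI := hIq; haveI := hqf; haveI := hqs
  haveI := GrpSchLib.AntiAffine.isSeparated_grp I
  haveI : LocallyOfFiniteType Z.hom := by rw [← Over.w i]; infer_instance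
  haveI : QuasiCompact Z.hom := by rw [← Over.w i]; infer_instance
  obtain ⟨C, _, c, hc, hcc, hCs, hCq, hCc, hcr⟩ := exists_comp Z
  haveI := hc; haveI := hcc; haveI := hCs; haveI := hCq; haveI := hCc
  haveI : IsClosedImmersion (c ≫ i).left := inferInstanceAs (IsClosedImmersion (c.left ≫ i.left))
  haveI : Mono (c ≫ i) := Over.mono_of_mono_left _
  have hcen : ∀ (T : Over (Spec (CommRingCat.of k))) (a : T ⟶ C) (g : T ⟶ G),
      (a ≫ c ≫ i) * g = g * (a ≫ c ≫ i) := fun T a g => by
    have := (hZ.2.2 T (a ≫ c ≫ i)).mp ⟨a ≫ c, Category.assoc _ _ _⟩ T (𝟙 T) g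
    simpa using this
  haveI := isCommMonObj_of_mono (c ≫ i) fun T a b => hcen T a _
  have hna : NoAff C := fun B _ b _ _ _ _ _ => by
    haveI : IsClosedImmersion (b ≫ c ≫ i).left := inferInstanceAs (IsClosedImmersion (b.left ≫ (c ≫ i).left))
    exact hG B (b ≫ c ≫ i) ⟨inferInstance, inferInstance, inferInstance, inferInstance, fun T g x => ⟨x, by
      rw [← Category.assoc x b (c ≫ i), ← hcen, mul_inv_cancel_right]⟩, inferInstance⟩
  haveI := isProper_of_noAff hna
  obtain ⟨φ, n, hφ, hn, hiφ⟩ := exists_hom (c ≫ i)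
  haveI := hφ
  haveI := surjective_of_comp_pow (c ≫ i) φ hn hiφ
  obtain ⟨K, _, κ, hκ, hκc, hKn, hk⟩ := GrpSchLib.exists_kernel φ
  haveI := hκ; haveI := hκc
  haveI : LocallyOfFiniteType K.hom := by rw [← Over.w κ]; infer_instance
  haveI : QuasiCompact K.hom := by rw [← Over.w κ]; infer_instance
  obtain ⟨N, _, d, hd, hdc, hNs, hNq, hNc, hdr⟩ := exists_comp K
  haveI := hd; haveI := hdc; haveI := hNs; haveI := hNq; haveI := hNc
  haveI : IsClosedImmersion (d ≫ κ).left := inferInstanceAs (IsClosedImmersion (d.left ≫ κ.left))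
  -- normality
  haveI : GeometricallyIntegral G.hom := AlbQuotLib.geometricallyIntegral G
  haveI : IsIntegral N.left := S18068.isIntegral_grp N
  haveI : IsLocallyNoetherian N.left := LocallyOfFiniteType.isLocallyNoetherian N.hom
  haveI : IsIntegral (G ⊗ N).left := inferInstanceAs (IsIntegral (pullback G.hom N.hom))
  haveI : IrreducibleSpace (G ⊗ N).left := inferInstance
  haveI : ConnectedSpace (G ⊗ N).left := inferInstance
  have hnor : AlgGrp.IsNormalHom (d ≫ κ) := by
    obtain ⟨x, hx⟩ := hKn _ (fst G N) (snd G N ≫ d)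
    obtain ⟨y, hy⟩ := exists_factor K hdr x ((lift η[G] η[N]).left (IsLocalRing.closedPoint k)) (by
      rw [← Scheme.Hom.comp_apply, ← Over.comp_left]
      refine congrArg (fun f : 𝟙_ (Over (Spec (CommRingCat.of k))) ⟶ K => f.left (IsLocalRing.closedPoint k)) ?_
      haveI : Mono κ := Over.mono_of_mono_left _
      rw [← cancel_mono κ, Category.assoc, ← hx]
      simp only [MonObj.comp_mul, GrpObj.comp_inv, lift_fst, lift_snd_assoc, Category.assoc,
        show η[G] = (1 : 𝟙_ _ ⟶ G) from MonObj.one_eq_one (M := G)]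
      rw [_root_.one_mul, inv_one, _root_.mul_one, ← Category.assoc, IsMonHom.one_hom d])
    intro T g a
    refine ⟨lift g a ≫ y, ?_⟩
    rw [Category.assoc, reassoc_of% hy, ← hx]
    simp only [MonObj.comp_mul, GrpObj.comp_inv, lift_fst, lift_snd_assoc, Category.assoc]
  -- the restriction to the affine quotient has finite kernel
  let qN := (d ≫ κ) ≫ q
  obtain ⟨K', _, κ', hκ', hκ'c, -, hk'⟩ := GrpSchLib.exists_kernel qN
  haveI := hκ'; haveI := hκ'c
  haveI : LocallyOfFiniteType K'.hom := by rw [← Over.w κ']; infer_instance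
  haveI : QuasiCompact K'.hom := by rw [← Over.w κ']; infer_instance
  obtain ⟨D, _, e, he, hec, hDs, hDq, hDc, her⟩ := exists_comp K'
  haveI := he; haveI := hec; haveI := hDs; haveI := hDq; haveI := hDc
  let j : D ⟶ G := e ≫ κ' ≫ d ≫ κ
  haveI : AlgebraicGeometry.IsReduced D.left := GrpSchLib.isReduced_of_smooth_field D.hom
  let z := hiq.lift j (toUnit D) (by
    have h : κ' ≫ qN = toUnit K' ≫ η[I] := hk'.w
    simp only [j, qN, Category.assoc] at h ⊢
    rw [h, ← Category.assoc, toUnit_unique (e ≫ toUnit K') (toUnit D)])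
  have hz : z ≫ i = j := hiq.lift_fst _ _ _
  obtain ⟨w, hw⟩ := exists_factor Z hcr z (η[D].left (IsLocalRing.closedPoint k)) (by
    rw [← Scheme.Hom.comp_apply, ← Over.comp_left]
    refine congrArg (fun f : 𝟙_ (Over (Spec (CommRingCat.of k))) ⟶ Z => f.left (IsLocalRing.closedPoint k)) ?_
    haveI : Mono i := Over.mono_of_mono_left _
    rw [← cancel_mono i, Category.assoc, hz, IsMonHom.one_hom j, IsMonHom.one_hom i])
  have hwn : w ≫ (𝟙 C ^ n : C ⟶ C) = 1 := by
    rw [← hiφ, ← Category.assoc, ← Category.assoc w c i, hw, hz]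
    simp only [j, Category.assoc, show κ ≫ φ = 1 from hk.w.trans Hom.one_def.symm, MonObj.comp_one]
  obtain ⟨_, _⟩ := abVar_props (A := C)
  haveI : IsFinite (𝟙 C ^ n : C ⟶ C).left := AVMulN.isFinite_pow n hn
  haveI : IsClosedImmersion j.left :=
    inferInstanceAs (IsClosedImmersion (e.left ≫ κ'.left ≫ d.left ≫ κ.left))
  haveI : IsClosedImmersion w.left := by
    haveI : IsClosedImmersion (w.left ≫ (c ≫ i).left) := by
      rw [← Over.comp_left, ← Category.assoc, hw, hz]; infer_instance
    exact IsClosedImmersion.of_comp w.left (c ≫ i).left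
  haveI : IsFinite D.hom := by
    haveI : IsProper D.hom := by rw [← Over.w w]; infer_instance
    haveI : LocallyQuasiFinite D.hom := by
      refine LocallyQuasiFinite.of_finite_preimage_singleton D.hom fun y => ?_
      refine (((𝟙 C ^ n : C ⟶ C).left.finite_preimage_singleton (pp η[C])).preimage
        w.left.isClosedEmbedding.injective.injOn).subset fun x _ => ?_
      show ((w ≫ (𝟙 C ^ n : C ⟶ C)).left) x = _
      rw [hwn]
      haveI : Subsingleton ↥(Spec (CommRingCat.of k)) := inferInstanceAs (Subsingleton (PrimeSpectrum k))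
      exact congrArg η[C].left (Subsingleton.elim (α := ↥(Spec (CommRingCat.of k))) _ _)
    exact (IsFinite.iff_isProper_and_locallyQuasiFinite D.hom).mpr ⟨inferInstance, inferInstance⟩
  haveI := isFinite_of_comp e her
  haveI : IsAffine N.left := isAffine_of_finite_kernel qN κ' hk'
  have hN : IsIso η[N] := hG N (d ≫ κ) ⟨inferInstance, inferInstance, inferInstance, inferInstance, hnor, inferInstance⟩
  haveI := isFinite_of_isIso K d hdr hN
  exact isProper_of_kernel φ κ hk

/-- Barsotti–Chevalley over an algebraically closed field. -/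
theorem exists_chevalley (G : Over (Spec (CommRingCat.of k))) [GrpObj G] [Smooth G.hom] [QuasiCompact G.hom]
    [ConnectedSpace G.left] :
    ∃ (L : Over (Spec (CommRingCat.of k))) (_ : GrpObj L) (l : L ⟶ G) (Q : Over (Spec (CommRingCat.of k))) (_ : GrpObj Q)
      (q : G ⟶ Q), LargeNormal.GoodA l ∧ IsMonHom q ∧ Surjective q.left ∧ Flat q.left ∧ AlgGrp.IsKernel l q ∧
        IsProper Q.hom ∧ Smooth Q.hom ∧ ConnectedSpace Q.left := by
  haveI := GrpSchLib.AntiAffine.isSeparated_grp G
  haveI : IsClosedImmersion η[G].left := by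
    haveI : IsClosedImmersion (η[G].left ≫ G.hom) := by
      rw [Over.w η[G]]; exact inferInstanceAs (IsClosedImmersion (𝟙 (Spec (CommRingCat.of k))))
    exact IsClosedImmersion.of_comp η[G].left G.hom
  let U : Over (Spec (CommRingCat.of k)) := 𝟙_ _
  have hU : IsMonHom (η[G] : U ⟶ G) := by
    refine LargeNormal.isMonHom_of_mul _ fun T a b => ?_
    rw [show (η[G] : U ⟶ G) = 1 from MonObj.one_eq_one (M := G), MonObj.comp_one, MonObj.comp_one, MonObj.comp_one,
      _root_.mul_one]
  have hUn : AlgGrp.IsNormalHom (η[G] : U ⟶ G) := fun T g n => ⟨toUnit T, by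
    rw [toUnit_unique n (toUnit T)]
    show g * (1 : T ⟶ G) * g⁻¹ = (1 : T ⟶ G)
    rw [_root_.mul_one, mul_inv_cancel]⟩
  obtain ⟨L, _, l, hl, -, hQ'⟩ := LargeNormal.exists_largest
    (P := fun E _ => IsAffine E.left)
    (hPa := fun N E Q _ _ _ _ _ _ _ _ _ i q _ _ _ _ hk _ hN hQ => (S7982.result k N E Q i q hk).1 hN hQ)
    (hPb := fun E Q _ _ _ _ _ _ q _ _ _ hE => GrpSchLib.isAffine_of_quotient q) (G := G)
    ⟨U, inferInstance, η[G], ⟨hU, ‹_›, inferInstanceAs (Smooth (𝟙 (Spec (CommRingCat.of k)))),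
      (inferInstanceAs (ConnectedSpace ↥(Spec (CommRingCat.of k)))), hUn,
      inferInstanceAs (IsAffine (Spec (CommRingCat.of k)))⟩⟩
  haveI := hl.hom; haveI := hl.closed
  haveI : Mono l := Over.mono_of_mono_left _
  haveI : LocallyOfFiniteType L.hom := by rw [← Over.w l]; infer_instance
  obtain ⟨Q, _, q, hq, hqf, hqs, hqp, hQl, -, hk⟩ := GrpQuotLib.exists_quotientGrp l hl.normal
  haveI := hq; haveI := hqf; haveI := hqs; haveI := hqp; haveI := hQl
  obtain ⟨-, hQqc, -⟩ := GrpQuotLib.props_of_cover ⟨hqf, hqs, hqp⟩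
  haveI : QuasiCompact Q.hom := hQqc inferInstance
  haveI : Smooth Q.hom := GrpSchLib.smooth_of_quotient q
  haveI : ConnectedSpace Q.left := q.left.surjective.connectedSpace q.left.continuous
  exact ⟨L, inferInstance, l, Q, inferInstance, q, hl, hq, hqs, hqf, hk,
    isProper_of_noGood (fun B _ b hb => hQ' Q q hk B b hb), inferInstance, inferInstance⟩

omit [IsAlgClosed k] in
/-- The affine part contains every smooth connected affine subgroup. -/
theorem factor_of_affine {G H L Q : Over (Spec (CommRingCat.of k))} [GrpObj G] [GrpObj H] [GrpObj L] [GrpObj Q]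
    [Smooth H.hom] [ConnectedSpace H.left] [IsAffine H.left] [IsProper Q.hom] {l : L ⟶ G} {q : G ⟶ Q} [IsMonHom q]
    (hk : AlgGrp.IsKernel l q) (h : H ⟶ G) [IsMonHom h] : ∃ f : H ⟶ L, f ≫ l = h :=
  ⟨hk.lift h (toUnit H) (by rw [GrpSchLib.AffToProper.hom_eq_one (h ≫ q)]; rfl), hk.lift_fst _ _ _⟩

end Groth.Agent.Chevalley.BC
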