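import Groth.Agent.Chevalley.BC.AffLib
import Groth.Agent.GrpSchLib.IsogenyFibre

/-!
Groups which need not be connected: affineness, and the largest connected affine subgroup.
-/

universe u

set_option backward.isDefEq.respectTransparency false
set_option linter.style.haveILetI false
set_option maxHeartbeats 1000000
set_option synthInstance.maxHeartbeats 200000

noncomputable section

open CategoryTheory CategoryTheory.Limits AlgebraicGeometry MonoidalCategory CartesianMonoidalCategory
open scoped MonObj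

namespace Groth.Agent.Chevalley.BC

open Val (pp)

variable {k : Type u} [Field k]

/-- A group is affine when an open connected subgroup is. -/
theorem isAffine_of_openSub {G G₀ : Over (Spec (CommRingCat.of k))} [GrpObj G] [GrpObj G₀] [LocallyOfFiniteType G.hom]
    [QuasiCompact G.hom] (i₀ : G₀ ⟶ G) [IsMonHom i₀] [IsOpenImmersion i₀.left] [IsAffine G₀.left] : IsAffine G.left := by
  let K := AlgebraicClosure k
  let σ : Spec (CommRingCat.of K) ⟶ Spec (CommRingCat.of k) := (SGA7.pt (K := k) K).hom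
  obtain ⟨hc1, hc2, hc3⟩ := LargeNormal.covering_pt (k := k) (K := K)
  let F := Over.pullback σ
  haveI : LocallyOfFiniteType (Red.bc σ G).hom := inferInstanceAs (LocallyOfFiniteType (pullback.snd G.hom σ))
  haveI : QuasiCompact (Red.bc σ G).hom := inferInstanceAs (QuasiCompact (pullback.snd G.hom σ))
  haveI : IsAffine (Red.bc σ G₀).left := inferInstanceAs (IsAffine (pullback G₀.hom σ))
  let j : Red.bc σ G₀ ⟶ Red.bc σ G := F.map i₀
  haveI : IsMonHom j := inferInstanceAs (IsMonHom (F.map i₀))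
  haveI : IsOpenImmersion j.left :=
    MorphismProperty.of_isPullback (P := @IsOpenImmersion) (GrpSchLib.IsogenyFibre.fibre_isPullback i₀ σ).flip ‹_›
  haveI : LocallyOfFiniteType (Red.bc σ G₀).hom := by rw [← Over.w j]; infer_instance
  haveI := GrpSchLib.AntiAffine.isSeparated_grp (Red.bc σ G)
  haveI : IsAffineHom j.left := by
    haveI : IsAffineHom (j.left ≫ (Red.bc σ G).hom) := by rw [Over.w j]; infer_instance
    exact IsAffineHom.of_comp j.left (Red.bc σ G).hom
  have hcl : IsClopen (Set.range j.left) := by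
    haveI : QuasiCompact (Red.bc σ G₀).hom := inferInstance
    exact ⟨GrpSchLib.HomClosedRange.isClosed_range j, j.left.isOpenMap.isOpen_range⟩
  obtain ⟨N, _, c, hcm, hcc, hNs, hNq, hNc, hcr⟩ := exists_comp (Red.bc σ G)
  haveI := hcc
  haveI : IsAffine N.left := by
    have hsub : Set.range c.left ⊆ Set.range j.left := by
      rw [hcr]
      refine hcl.connectedComponent_subset ⟨pp η[Red.bc σ G₀], ?_⟩
      rw [← IsMonHom.one_hom j]
      rfl
    let g := IsOpenImmersion.lift j.left c.left hsub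
    haveI : IsClosedImmersion g := by
      haveI : IsClosedImmersion (g ≫ j.left) := by rw [IsOpenImmersion.lift_fac]; infer_instance
      exact IsClosedImmersion.of_comp g j.left
    exact isAffine_of_isAffineHom g
  haveI : IsAffine (Red.bc σ G).left := isAffine_of_comp c hcr
  haveI := EtFound.fpqc_isAffineHom.{u}
  haveI : IsAffineHom G.hom := MorphismProperty.of_pullback_snd_of_descendsAlong (P := @IsAffineHom)
    (Q := (@Surjective ⊓ @Flat ⊓ @QuasiCompact : MorphismProperty Scheme.{u})) (g := σ) ⟨⟨hc1, hc2⟩, hc3⟩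
    (inferInstanceAs (IsAffineHom (Red.bc σ G).hom))
  exact isAffine_of_isAffineHom G.hom

variable [IsAlgClosed k]

theorem exists_point_eq {G : Over (Spec (CommRingCat.of k))} [LocallyOfFiniteType G.hom] [IsSeparated G.hom]
    {H : Over (Spec (CommRingCat.of k))} [LocallyOfFiniteType H.hom] (f : H ⟶ G)
    (t : 𝟙_ (Over (Spec (CommRingCat.of k))) ⟶ G) (ht : pp t ∈ Set.range f.left) :
    ∃ y : 𝟙_ (Over (Spec (CommRingCat.of k))) ⟶ H, y ≫ f = t := by
  haveI : JacobsonSpace H.left := LocallyOfFiniteType.jacobsonSpace H.hom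
  haveI : IsClosedImmersion t.left := by
    haveI : IsClosedImmersion (t.left ≫ G.hom) := by
      rw [Over.w t]; exact inferInstanceAs (IsClosedImmersion (𝟙 (Spec (CommRingCat.of k))))
    exact IsClosedImmersion.of_comp t.left G.hom
  obtain ⟨x, hx⟩ := ht
  obtain ⟨c, hc, hcc⟩ := nonempty_inter_closedPoints (X := H.left) (Z := f.left ⁻¹' Set.range t.left) ⟨x, ⟨_, hx.symm⟩⟩
    (t.left.isClosedEmbedding.isClosed_range.preimage f.left.continuous).isLocallyClosed
  obtain ⟨w, hw⟩ := hc
  let y : 𝟙_ (Over (Spec (CommRingCat.of k))) ⟶ H :=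
    Over.homMk (pointOfClosedPoint H.hom c hcc) (pointOfClosedPoint_comp _ c hcc)
  refine ⟨y, Over.OverMorphism.ext (ext_of_apply_closedPoint_eq G.hom (Over.w (y ≫ f)) (Over.w t) ?_)⟩
  refine (congrArg f.left (pointOfClosedPoint_apply H.hom c hcc _)).trans (hw.symm.trans ?_)
  exact congrArg t.left (Subsingleton.elim (α := PrimeSpectrum k) _ _)

/-- The largest connected affine subgroup of a smooth group. -/
theorem exists_affPart (G : Over (Spec (CommRingCat.of k))) [GrpObj G] [Smooth G.hom] [QuasiCompact G.hom] :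
    ∃ (L : Over (Spec (CommRingCat.of k))) (_ : GrpObj L) (l : L ⟶ G),
      LargeNormal.GoodA l ∧
        ∀ (H : Over (Spec (CommRingCat.of k))) [GrpObj H] [Smooth H.hom] [ConnectedSpace H.left] [IsAffine H.left]
          (h : H ⟶ G) [IsMonHom h], ∃ f : H ⟶ L, f ≫ l = h := by
  haveI := GrpSchLib.AntiAffine.isSeparated_grp G
  haveI : JacobsonSpace G.left := LocallyOfFiniteType.jacobsonSpace G.hom
  obtain ⟨N, _, c, hcm, hcc, hNs, hNq, hNc, hcr⟩ := exists_comp G
  haveI := hcm; haveI := hcc; haveI := hNs; haveI := hNq; haveI := hNc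
  haveI : Mono c := Over.mono_of_mono_left _
  obtain ⟨L, _, l, Q, _, q, hl, hq, hqs, hqf, hk, hQp, -, -⟩ := exists_chevalley N
  haveI := hl.hom; haveI := hl.closed; haveI := hl.smooth; haveI := hl.conn; haveI := hq; haveI := hQp
  haveI : IsAffine L.left := hl.prop
  haveI : IsClosedImmersion (l ≫ c).left := inferInstanceAs (IsClosedImmersion (l.left ≫ c.left))
  haveI : Mono (l ≫ c) := Over.mono_of_mono_left _
  have hmax : ∀ (H : Over (Spec (CommRingCat.of k))) [GrpObj H] [Smooth H.hom] [ConnectedSpace H.left] [IsAffine H.left]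
      (h : H ⟶ G) [IsMonHom h], ∃ f : H ⟶ L, f ≫ l ≫ c = h := by
    intro H _ _ _ _ h _
    haveI : AlgebraicGeometry.IsReduced H.left := GrpSchLib.isReduced_of_smooth_field H.hom
    obtain ⟨g, hg⟩ := exists_factor G hcr h (pp η[H]) (by rw [← IsMonHom.one_hom h]; rfl)
    haveI : IsMonHom g := LargeNormal.isMonHom_of_mul _ fun T a b => by
      rw [← cancel_mono c, Category.assoc, hg, MonObj.mul_comp, MonObj.mul_comp, Category.assoc, Category.assoc, hg]
    obtain ⟨f, hf⟩ := factor_of_affine hk g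
    exact ⟨f, by rw [← Category.assoc, hf, hg]⟩
  refine ⟨L, inferInstance, l ≫ c, ⟨inferInstance, inferInstance, inferInstance, inferInstance, ?_, inferInstance⟩, hmax⟩
  haveI : LocallyOfFiniteType (G ⊗ L).hom := inferInstanceAs (LocallyOfFiniteType (pullback.fst G.hom L.hom ≫ G.hom))
  haveI : Smooth (G ⊗ L).hom := inferInstanceAs (Smooth (pullback.fst G.hom L.hom ≫ G.hom))
  haveI : AlgebraicGeometry.IsReduced (G ⊗ L).left := GrpSchLib.isReduced_of_smooth_field (G ⊗ L).hom
  let cj : G ⊗ L ⟶ G := fst G L * (snd G L ≫ l ≫ c) * (fst G L)⁻¹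
  have hpts : ∀ t : 𝟙_ (Over (Spec (CommRingCat.of k))) ⟶ G ⊗ L, pp (t ≫ cj) ∈ Set.range (l ≫ c).left := by
    intro t
    let g := t ≫ fst G L
    let φ : L ⟶ G := (toUnit L ≫ g) * (l ≫ c) * (toUnit L ≫ g)⁻¹
    haveI : IsMonHom φ := LargeNormal.isMonHom_of_mul _ fun T a b => by
      simp only [φ, MonObj.comp_mul, GrpObj.comp_inv, MonObj.mul_comp, ← Category.assoc, comp_toUnit]
      group
    obtain ⟨f, hf⟩ := hmax L φ
    have e : t ≫ cj = ((t ≫ snd G L) ≫ f) ≫ l ≫ c := by
      rw [Category.assoc (t ≫ snd G L) f, hf]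
      simp only [cj, φ, g, MonObj.comp_mul, GrpObj.comp_inv, ← Category.assoc, comp_toUnit,
        toUnit_unique (toUnit (𝟙_ (Over (Spec (CommRingCat.of k))))) (𝟙 _), Category.id_comp]
    rw [e]
    exact ⟨_, rfl⟩
  obtain ⟨d, hd⟩ := H23.RedSub.exists_lift_closed cj.left (l ≫ c).left
    (Val.range_subset_of_points cj (l ≫ c).left.isClosedEmbedding.isClosed_range hpts)
  let d' : G ⊗ L ⟶ L := Over.homMk d (by rw [← Over.w (l ≫ c), reassoc_of% hd, Over.w cj])
  have hd' : d' ≫ l ≫ c = cj := Over.OverMorphism.ext hd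
  intro T g x
  refine ⟨lift g x ≫ d', ?_⟩
  rw [Category.assoc, hd']
  simp only [cj, MonObj.comp_mul, GrpObj.comp_inv, lift_fst, lift_snd_assoc]

end Groth.Agent.Chevalley.BC
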