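import Groth.Agent.Chevalley.BC.Main

/-!
The theorem of Barsotti and Chevalley over a perfect field.
-/

universe u

set_option backward.isDefEq.respectTransparency false
set_option linter.style.haveILetI false
set_option maxHeartbeats 1000000
set_option synthInstance.maxHeartbeats 200000

noncomputable section

open CategoryTheory CategoryTheory.Limits AlgebraicGeometry MonoidalCategory CartesianMonoidalCategory
open scoped MonObj

namespace Groth.Agent.Chevalley.BC

variable {k : Type u} [Field k]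

theorem exists_affPart_quot (G : Over (Spec (CommRingCat.of k))) [GrpObj G] [Smooth G.hom] [QuasiCompact G.hom]
    [ConnectedSpace G.left] :
    ∃ (L : Over (Spec (CommRingCat.of k))) (_ : GrpObj L) (l : L ⟶ G) (Q : Over (Spec (CommRingCat.of k))) (_ : GrpObj Q)
      (q : G ⟶ Q), LargeNormal.GoodA l ∧ IsMonHom q ∧ Surjective q.left ∧ Flat q.left ∧ AlgGrp.IsKernel l q ∧
        Smooth Q.hom ∧ QuasiCompact Q.hom ∧ ConnectedSpace Q.left ∧
        ∀ (B : Over (Spec (CommRingCat.of k))) [GrpObj B] (b : B ⟶ Q), LargeNormal.GoodA b → IsIso η[B] := by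
  haveI := GrpSchLib.AntiAffine.isSeparated_grp G
  haveI : IsClosedImmersion η[G].left := by
    haveI : IsClosedImmersion (η[G].left ≫ G.hom) := by
      rw [Over.w η[G]]; exact inferInstanceAs (IsClosedImmersion (𝟙 (Spec (CommRingCat.of k))))
    exact IsClosedImmersion.of_comp η[G].left G.hom
  let U : Over (Spec (CommRingCat.of k)) := 𝟙_ _
  have hU : IsMonHom (η[G] : U ⟶ G) := by
    refine LargeNormal.isMonHom_of_mul _ fun T a b => ?_
    rw [show (η[G] : U ⟶ G) = 1 from MonObj.one_eq_one (M := G), MonObj.comp_one, MonObj.comp_one, MonObj.comp_one,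
      _root_.mul_one]
  have hUn : AlgGrp.IsNormalHom (η[G] : U ⟶ G) := fun T g n => ⟨toUnit T, by
    rw [toUnit_unique n (toUnit T)]
    show g * (1 : T ⟶ G) * g⁻¹ = (1 : T ⟶ G)
    rw [_root_.mul_one, mul_inv_cancel]⟩
  obtain ⟨L, _, l, hl, -, hQ'⟩ := LargeNormal.exists_largest
    (P := fun E _ => IsAffine E.left)
    (hPa := fun N E Q _ _ _ _ _ _ _ _ _ i q _ _ _ _ hk _ hN hQ => (S7982.result k N E Q i q hk).1 hN hQ)
    (hPb := fun E Q _ _ _ _ _ _ q _ _ _ hE => GrpSchLib.isAffine_of_quotient q) (G := G)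
    ⟨U, inferInstance, η[G], ⟨hU, ‹_›, inferInstanceAs (Smooth (𝟙 (Spec (CommRingCat.of k)))),
      (inferInstanceAs (ConnectedSpace ↥(Spec (CommRingCat.of k)))), hUn,
      inferInstanceAs (IsAffine (Spec (CommRingCat.of k)))⟩⟩
  haveI := hl.hom; haveI := hl.closed
  haveI : Mono l := Over.mono_of_mono_left _
  haveI : LocallyOfFiniteType L.hom := by rw [← Over.w l]; infer_instance
  obtain ⟨Q, _, q, hq, hqf, hqs, hqp, hQl, -, hk⟩ := GrpQuotLib.exists_quotientGrp l hl.normal
  haveI := hq; haveI := hqf; haveI := hqs; haveI := hqp; haveI := hQl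
  obtain ⟨-, hQqc, -⟩ := GrpQuotLib.props_of_cover ⟨hqf, hqs, hqp⟩
  haveI : QuasiCompact Q.hom := hQqc inferInstance
  haveI : Smooth Q.hom := GrpSchLib.smooth_of_quotient q
  haveI : ConnectedSpace Q.left := q.left.surjective.connectedSpace q.left.continuous
  exact ⟨L, inferInstance, l, Q, inferInstance, q, hl, hq, hqs, hqf, hk, inferInstance, inferInstance, inferInstance,
    fun B _ b hb => hQ' Q q hk B b hb⟩

/-- Barsotti–Chevalley over a perfect field. -/
theorem exists_chevalley_perfect [PerfectField k] (G : Over (Spec (CommRingCat.of k))) [GrpObj G] [Smooth G.hom]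
    [QuasiCompact G.hom] [ConnectedSpace G.left] :
    ∃ (L : Over (Spec (CommRingCat.of k))) (_ : GrpObj L) (l : L ⟶ G) (Q : Over (Spec (CommRingCat.of k))) (_ : GrpObj Q)
      (q : G ⟶ Q), LargeNormal.GoodA l ∧ IsMonHom q ∧ Surjective q.left ∧ Flat q.left ∧ AlgGrp.IsKernel l q ∧
        IsProper Q.hom ∧ Smooth Q.hom ∧ ConnectedSpace Q.left := by
  obtain ⟨L, _, l, Q, _, q, hl, hq, hqs, hqf, hk, hQs, hQq, hQc, hgood⟩ := exists_affPart_quot G
  haveI := hQs; haveI := hQq; haveI := hQc
  let K := AlgebraicClosure k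
  haveI : Algebra.IsSeparable k K := Algebra.IsAlgebraic.isSeparable_of_perfectField
  haveI : IsGalois k K := ⟨⟩
  let φ : Spec (CommRingCat.of K) ⟶ Spec (CommRingCat.of k) := (SGA7.pt (K := k) K).hom
  haveI : GeometricallyConnected Q.hom := H23.GeomConn.of_point k Q.hom η[Q].left (Over.w η[Q])
  haveI : Smooth (Red.bc φ Q).hom := inferInstanceAs (Smooth (pullback.snd Q.hom φ))
  haveI : QuasiCompact (Red.bc φ Q).hom := inferInstanceAs (QuasiCompact (pullback.snd Q.hom φ))
  haveI : ConnectedSpace (Red.bc φ Q).left := inferInstanceAs (ConnectedSpace ↥(pullback Q.hom φ))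
  obtain ⟨B₀, _, b₀, hb₀, hmax⟩ := LargeNormal.exists_largest_goodA (Red.bc φ Q)
  obtain ⟨H, _, i, hi, e, he⟩ := LargeNormal.exists_descent hb₀ (LargeNormal.exists_galMap hb₀ fun H' _ j'' h => hmax H' j'' h)
  have hH := hgood H i hi
  haveI := hi.hom
  have hi1 : i = 1 := eq_one_of_trivial hH i
  have hb1 : b₀ = 1 := by
    rw [← he, hi1]
    have h1 : (Over.pullback φ).map (1 : H ⟶ Q) = 1 := by
      have h := Functor.map_mul (Over.pullback φ) (1 : H ⟶ Q) 1
      rwa [_root_.one_mul, left_eq_mul] at h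
    rw [h1, MonObj.comp_one]
  haveI : IsProper (Red.bc φ Q).hom := isProper_of_noGood fun B _ b hb => by
    obtain ⟨f, hf⟩ := hmax B b hb
    have hb' : b = 1 := by rw [← hf, hb1, MonObj.comp_one]
    haveI := hb.closed
    haveI : Mono b := Over.mono_of_mono_left _
    have h3 : 𝟙 B = (1 : B ⟶ B) := by
      haveI := hb.hom
      rw [← cancel_mono b, Category.id_comp, MonObj.one_comp, hb']
    exact ⟨toUnit B, toUnit_unique _ _, h3.symm⟩
  obtain ⟨h1, h2, h3⟩ := LargeNormal.covering_pt (k := k) (K := K)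
  haveI := EtFound.fpqc_isProper.{u}
  haveI hQp : IsProper Q.hom := MorphismProperty.of_pullback_snd_of_descendsAlong (P := @IsProper)
    (Q := (@Surjective ⊓ @Flat ⊓ @QuasiCompact : MorphismProperty Scheme.{u})) (g := φ) ⟨⟨h1, h2⟩, h3⟩
    (inferInstanceAs (IsProper (Red.bc φ Q).hom))
  exact ⟨L, inferInstance, l, Q, inferInstance, q, hl, hq, hqs, hqf, hk, hQp, hQs, hQc⟩

end Groth.Agent.Chevalley.BC
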