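import Groth.Agent.Chevalley.BC.AnyField
import Groth.Agent.Chevalley.BC.NonConn
import Groth.Agent.AlbQuotLib.Albanese
import Groth.Agent.GrpSchLib.Coincidence
import Groth.Agent.GrpSchLib.HomClosedRange
import Groth.Agent.S3280

/-!
The smallest normal subgroup scheme of a smooth group with proper quotient.
-/

set_option autoImplicit false
set_option backward.isDefEq.respectTransparency false
universe u
open CategoryTheory CategoryTheory.Limits AlgebraicGeometry MonoidalCategory CartesianMonoidalCategory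
open scoped MonObj

namespace Groth.Agent.Chevalley.BC

variable {k : Type u} [Field k]

local notation "Sch" => Over (Spec (CommRingCat.of k))

/-- Over an algebraically closed field a quotient by a subgroup containing the affine part is proper. -/
theorem isProper_of_kills [IsAlgClosed k] {G L Q : Sch} [GrpObj G] [GrpObj L] [GrpObj Q] [Smooth G.hom]
    [QuasiCompact G.hom] [LocallyOfFiniteType Q.hom] [QuasiCompact Q.hom] (l : L ⟶ G)
    (hL : ∀ (H : Sch) [GrpObj H] [Smooth H.hom] [ConnectedSpace H.left] [IsAffine H.left]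
      (h : H ⟶ G) [IsMonHom h], ∃ f : H ⟶ L, f ≫ l = h)
    (q : G ⟶ Q) [IsMonHom q] [Surjective q.left] (hq : l ≫ q = 1) : IsProper Q.hom := by
  haveI := GrpSchLib.AntiAffine.isSeparated_grp Q
  obtain ⟨C, _, c, hc, hcc, hCs, hCq, hCc, hcr⟩ := exists_comp G
  haveI := hc; haveI := hcc; haveI := hCs; haveI := hCq; haveI := hCc
  obtain ⟨L₀, _, l₀, A, _, q₀, hl₀, hq₀, hq₀s, hq₀f, hk₀, hA, -, -⟩ := exists_chevalley C
  haveI := hl₀.hom; haveI := hl₀.smooth; haveI := hl₀.conn; haveI : IsAffine L₀.left := hl₀.prop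
  haveI := hl₀.closed; haveI := hq₀; haveI := hq₀s; haveI := hq₀f; haveI := hA
  obtain ⟨f, hf⟩ := hL L₀ (l₀ ≫ c)
  obtain ⟨u, -, hqu, -⟩ := S3280.result k C L₀ A Q q₀ l₀ hk₀ (c ≫ q) (by
    rw [← Category.assoc, ← hf, Category.assoc, hq, MonObj.comp_one, Hom.one_def])
  obtain ⟨D, _, s, hs⟩ := exists_cover G c hcr
  let m : D ⊗ A ⟶ Q := (fst D A ≫ s ≫ q) * (snd D A ≫ u)
  have e : (D ◁ q₀) ≫ m = ((fst D C ≫ s) * (snd D C ≫ c)) ≫ q := by
    simp only [m, MonObj.comp_mul, MonObj.mul_comp, Category.assoc, whiskerLeft_fst_assoc, whiskerLeft_snd_assoc, hqu]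
  haveI : Surjective m.left := by
    haveI := hs
    haveI : Surjective ((D ◁ q₀).left ≫ m.left) := by
      rw [← Over.comp_left, e, Over.comp_left]; infer_instance
    exact Surjective.of_comp (D ◁ q₀).left m.left
  haveI : IsProper (D ⊗ A).hom := inferInstanceAs (IsProper (pullback.fst D.hom A.hom ≫ D.hom))
  exact isProper_of_surjective m

/-- A morphism from a connected group to a proper smooth group lands in the abelian neutral component. -/
theorem exists_factor_component {G₀ Q : Sch} [GrpObj G₀] [GrpObj Q] [ConnectedSpace G₀.left] [IsProper Q.hom]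
    [Smooth Q.hom] (q : G₀ ⟶ Q) [IsMonHom q] :
    ∃ (B : Sch) (_ : GrpObj B) (b : B ⟶ Q) (f : G₀ ⟶ B), IsProper B.hom ∧ Smooth B.hom ∧ ConnectedSpace B.left ∧
      IsMonHom b ∧ η[G₀] ≫ f = η[B] ∧ f ≫ b = q := by
  obtain ⟨B, _, b, hb, hbc, hbf, hbr, hbg, hBc⟩ := GrpSchLib.exists_identityComponent (G := Q)
  haveI := hb; haveI := hbc; haveI := hbf; haveI := hbg; haveI := hBc
  haveI : IsLocallyNoetherian Q.left := LocallyOfFiniteType.isLocallyNoetherian Q.hom
  haveI : IsOpenImmersion b.left := IsOpenImmersion.of_flat_of_mono b.left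
  haveI : IrreducibleSpace B.left := GeometricallyIrreducible.irreducibleSpace_of_subsingleton B.hom
  haveI : Smooth B.hom := by rw [← Over.w b]; infer_instance
  haveI : IsProper B.hom := by rw [← Over.w b]; infer_instance
  obtain ⟨f, hf⟩ := GrpQuotLib.exists_lift_of_range_subset b q (by
    rw [hbr]
    refine (isPreconnected_range q.left.continuous).subset_connectedComponent
      ⟨η[G₀].left (IsLocalRing.closedPoint k), ?_⟩
    rw [← IsMonHom.one_hom q]; rfl)
  haveI : Mono b := Over.mono_of_mono_left _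
  exact ⟨B, inferInstance, b, f, inferInstance, inferInstance, inferInstance, hb,
    by rw [← cancel_mono b, Category.assoc, hf, IsMonHom.one_hom q, IsMonHom.one_hom b], hf⟩

/-- The normal core of a closed subgroup. -/
theorem exists_normal_core {G H : Sch} [GrpObj G] [GrpObj H] (h : H ⟶ G) [IsMonHom h] [IsClosedImmersion h.left] :
    ∃ (C : Sch) (_ : GrpObj C) (c : C ⟶ G), IsMonHom c ∧ IsClosedImmersion c.left ∧ AlgGrp.IsNormalHom c ∧
      (∃ t : C ⟶ H, t ≫ h = c) ∧
      ∀ (T : Sch) (x : T ⟶ G),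
        (∀ (T' : Sch) (t : T' ⟶ T) (g : T' ⟶ G), ∃ y : T' ⟶ H, y ≫ h = g * (t ≫ x) * g⁻¹) → ∃ z : T ⟶ C, z ≫ c = x := by
  haveI : Mono h := Over.mono_of_mono_left _
  let cj : G ⊗ G ⟶ G := fst G G * snd G G * (fst G G)⁻¹
  let i := pullback.snd h.left cj.left
  haveI : IsClosedImmersion i := inferInstance
  obtain ⟨Z, z, hz, hfac⟩ := GrpSchLib.exists_weilRestriction (GrpSchLib.hasIdeals_field (W := G) (X := G) i)
  let C : Sch := Over.mk (z ≫ G.hom)
  let c : C ⟶ G := Over.homMk z rfl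
  haveI : IsClosedImmersion c.left := hz
  haveI : Mono c := Over.mono_of_mono_left _
  have key : ∀ (T : Sch) (x : T ⟶ G), (∃ w : T ⟶ C, w ≫ c = x) ↔
      ∀ (T' : Sch) (t : T' ⟶ T) (g : T' ⟶ G), ∃ y : T' ⟶ H, y ≫ h = g * (t ≫ x) * g⁻¹ := by
    intro T x
    have h1 : (∃ w : T ⟶ C, w ≫ c = x) ↔ GrpSchLib.Good (snd G G).left i x.left := by
      rw [← hfac]
      constructor
      · rintro ⟨w, hw⟩
        exact ⟨w.left, congrArg CommaMorphism.left hw⟩
      · rintro ⟨w, hw⟩
        exact ⟨Over.homMk w (by show w ≫ z ≫ G.hom = T.hom; rw [reassoc_of% hw, Over.w x]),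
          Over.OverMorphism.ext hw⟩
    have hconj : ∀ {T' : Sch} (t : T' ⟶ T) (g : T' ⟶ G),
        lift g t ≫ (G ◁ x) ≫ cj = g * (t ≫ x) * g⁻¹ := by
      intro T' t g
      simp only [cj, MonObj.comp_mul, GrpObj.comp_inv, whiskerLeft_fst, whiskerLeft_snd, lift_fst, lift_snd_assoc]
    rw [h1, GrpSchLib.good_iff_whiskerLeft]
    constructor
    · rintro ⟨w, hw⟩ T' t g
      have h2 : (w ≫ pullback.fst h.left cj.left) ≫ h.left = ((G ◁ x) ≫ cj).left := by
        rw [Category.assoc, pullback.condition, ← Category.assoc, hw]; rfl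
      let y : G ⊗ T ⟶ H := Over.homMk (w ≫ pullback.fst h.left cj.left) (by
        rw [← Over.w h, ← Category.assoc, h2, Over.w ((G ◁ x) ≫ cj)])
      refine ⟨lift g t ≫ y, ?_⟩
      rw [Category.assoc, show y ≫ h = (G ◁ x) ≫ cj from Over.OverMorphism.ext h2, hconj]
    · intro hx
      obtain ⟨y, hy⟩ := hx (G ⊗ T) (snd G T) (fst G T)
      rw [← hconj, lift_fst_snd, Category.id_comp] at hy
      exact ⟨pullback.lift y.left (G ◁ x).left (congrArg CommaMorphism.left hy), pullback.lift_snd _ _ _⟩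
  obtain ⟨_, hc, hn⟩ := LargeNormal.exists_subgroup c
    ((key _ η[G]).2 fun T' t g => ⟨1, by
      rw [MonObj.one_comp, show η[G] = (1 : 𝟙_ Sch ⟶ G) from MonObj.one_eq_one (M := G), MonObj.comp_one,
        _root_.mul_one, mul_inv_cancel]⟩)
    (fun T x y => (key _ _).2 fun T' t g => by
      obtain ⟨a, ha⟩ := (key _ _).1 ⟨x, rfl⟩ T' t g
      obtain ⟨b, hb⟩ := (key _ _).1 ⟨y, rfl⟩ T' t g
      exact ⟨a * b, by rw [MonObj.mul_comp, ha, hb, MonObj.comp_mul]; group⟩)
    (fun T x => (key _ _).2 fun T' t g => by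
      obtain ⟨a, ha⟩ := (key _ _).1 ⟨x, rfl⟩ T' t g
      exact ⟨a⁻¹, by rw [GrpObj.inv_comp, ha, GrpObj.comp_inv]; group⟩)
    (fun T g₀ x => by
      obtain ⟨w, hw⟩ := (key T (g₀ * (x ≫ c) * g₀⁻¹)).2 fun T' t g => by
        obtain ⟨a, ha⟩ := (key _ _).1 ⟨x, rfl⟩ T' t (g * (t ≫ g₀))
        exact ⟨a, by rw [ha, MonObj.comp_mul, MonObj.comp_mul, GrpObj.comp_inv]; group⟩
      exact ⟨w, hw.symm⟩)
  refine ⟨C, _, c, hc, inferInstance, hn, ?_, fun T x hx => (key T x).2 hx⟩
  obtain ⟨y, hy⟩ := (key C c).1 ⟨𝟙 C, Category.id_comp _⟩ C (𝟙 C) 1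
  exact ⟨y, by rw [hy, Category.id_comp, inv_one, _root_.one_mul, _root_.mul_one]⟩

/-- The kernel of the Albanese morphism of the neutral component. -/
theorem albanese_kernel
    (G : Sch) [GrpObj G] [Smooth G.hom] [QuasiCompact G.hom]
    (G₀ : Sch) [GrpObj G₀] (i₀ : G₀ ⟶ G) [IsMonHom i₀] [IsOpenImmersion i₀.left] [ConnectedSpace G₀.left]
    (A : Sch) [GrpObj A] [IsProper A.hom] [Smooth A.hom] [ConnectedSpace A.left]
    (α : G₀ ⟶ A) [IsMonHom α] [Surjective α.left] [Flat α.left]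
    (hα : ∀ (B : Sch) [GrpObj B] [IsProper B.hom] [Smooth B.hom] [ConnectedSpace B.left] (f : G₀ ⟶ B),
      η[G₀] ≫ f = η[B] → ∃! g : A ⟶ B, α ≫ g = f)
    (N : Sch) [GrpObj N] (j : N ⟶ G₀) [IsMonHom j] [IsClosedImmersion j.left] (hN : AlgGrp.IsKernel j α) :
    AlgGrp.IsNormalHom (j ≫ i₀) ∧ IsAffine N.left ∧ ConnectedSpace N.left ∧
      (∃ (Q : Sch) (_ : GrpObj Q) (q : G ⟶ Q), IsMonHom q ∧ Surjective q.left ∧ Flat q.left ∧
        AlgGrp.IsKernel (j ≫ i₀) q ∧ IsProper Q.hom) ∧
      ∀ (Q' : Sch) [GrpObj Q'] [IsProper Q'.hom] (q' : G ⟶ Q') [IsMonHom q'] [Surjective q'.left] [Flat q'.left],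
        (j ≫ i₀) ≫ q' = 1 := by
  haveI := GrpSchLib.AntiAffine.isSeparated_grp G
  haveI : IsLocallyNoetherian G.left := LocallyOfFiniteType.isLocallyNoetherian G.hom
  haveI : QuasiCompact i₀.left := inferInstance
  haveI : Smooth G₀.hom := by rw [← Over.w i₀]; infer_instance
  haveI : QuasiCompact G₀.hom := by rw [← Over.w i₀]; infer_instance
  haveI := GrpSchLib.AntiAffine.isSeparated_grp G₀
  haveI : IsClosedImmersion i₀.left :=
    IsClosedImmersion.of_isPreimmersion _ (GrpSchLib.HomClosedRange.isClosed_range i₀)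
  haveI : Mono i₀ := Over.mono_of_mono_left _
  haveI : Mono j := Over.mono_of_mono_left _
  have hkill : ∀ (B : Sch) [GrpObj B] [IsProper B.hom] [Smooth B.hom] [ConnectedSpace B.left] (f : G₀ ⟶ B),
      η[G₀] ≫ f = η[B] → j ≫ f = 1 := by
    intro B _ _ _ _ f hf
    obtain ⟨g, hg, -⟩ := hα B f hf
    have h1 : η[A] ≫ g = η[B] := by rw [← IsMonHom.one_hom α, Category.assoc, hg, hf]
    rw [← hg, reassoc_of% hN.w, h1, Hom.one_def]
  have hkillQ : ∀ (Q : Sch) [GrpObj Q] [IsProper Q.hom] [Smooth Q.hom] (q : G ⟶ Q) [IsMonHom q],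
      (j ≫ i₀) ≫ q = 1 := by
    intro Q _ _ _ q _
    obtain ⟨B, _, b, f, hBp, hBs, hBc, hb, hf1, hf2⟩ := exists_factor_component (i₀ ≫ q)
    haveI := hBp; haveI := hBs; haveI := hBc; haveI := hb
    rw [Category.assoc, ← hf2, reassoc_of% hkill B f hf1, MonObj.one_comp]
  haveI : IsAffine N.left := by
    obtain ⟨L, _, l, Q, _, q, hl, hlc, -, hLa, hq, -, -, hk, hQp, hQs, hQc⟩ := exists_affine_quot G₀
    haveI := hl; haveI := hlc; haveI := hLa; haveI := hq; haveI := hQp; haveI := hQs; haveI := hQc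
    let t := hk.lift j (toUnit N) ((hkill Q q (IsMonHom.one_hom q)).trans Hom.one_def)
    have ht : t ≫ l = j := hk.lift_fst _ _ _
    haveI : IsClosedImmersion (t.left ≫ l.left) := by rw [← Over.comp_left, ht]; infer_instance
    haveI : IsClosedImmersion t.left := IsClosedImmersion.of_comp t.left l.left
    exact isAffine_of_isAffineHom t.left
  haveI : ConnectedSpace N.left := by
    obtain ⟨N', _, i', A', _, α', h, hc', hu⟩ := AlbQuotLib.exists_albanese (G := G₀)
    haveI := h.hi; haveI := h.ci; haveI := h.prop; haveI := h.smooth; haveI := h.conn; haveI := h.hα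
    haveI : Mono i' := Over.mono_of_mono_left _
    let a := h.ker.lift j (toUnit N) ((hkill A' α' (IsMonHom.one_hom α')).trans Hom.one_def)
    have ha : a ≫ i' = j := h.ker.lift_fst _ _ _
    let b := hN.lift i' (toUnit N') (((hu A α (IsMonHom.one_hom α)).2.2).trans Hom.one_def)
    have hb : b ≫ j = i' := hN.lift_fst _ _ _
    let e : N' ≅ N := ⟨b, a, by rw [← cancel_mono i', Category.assoc, ha, hb, Category.id_comp],
      by rw [← cancel_mono j, Category.assoc, hb, ha, Category.id_comp]⟩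
    haveI : IsIso b.left := ((Over.forget _).mapIso e).isIso_hom
    exact b.left.homeomorph.surjective.connectedSpace b.left.continuous
  suffices hQ : AlgGrp.IsNormalHom (j ≫ i₀) ∧ ∃ (Q : Sch) (_ : GrpObj Q) (q : G ⟶ Q),
      IsMonHom q ∧ Surjective q.left ∧ Flat q.left ∧ AlgGrp.IsKernel (j ≫ i₀) q ∧ IsProper Q.hom by
    refine ⟨hQ.1, ‹_›, ‹_›, hQ.2, ?_⟩
    intro Q' _ _ q' _ _ _
    haveI : LocallyOfFiniteType Q'.hom := inferInstance
    haveI : Smooth Q'.hom := GrpSchLib.smooth_of_quotient q'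
    exact hkillQ Q' q'
  haveI : IsClosedImmersion (j ≫ i₀).left := inferInstanceAs (IsClosedImmersion (j.left ≫ i₀.left))
  obtain ⟨C, _, c, hc, hcc, hcn, ⟨t, ht⟩, hCmax⟩ := exists_normal_core (j ≫ i₀)
  haveI := hc; haveI := hcc
  haveI : Mono c := Over.mono_of_mono_left _
  haveI : LocallyOfFiniteType C.hom := by rw [← Over.w c]; infer_instance
  obtain ⟨Q, _, q, hq, hqf, hqs, hqp, hQl, -, hk⟩ := GrpQuotLib.exists_quotientGrp c hcn
  haveI := hq; haveI := hqf; haveI := hqs; haveI := hqp; haveI := hQl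
  obtain ⟨-, hQq, -⟩ := GrpQuotLib.props_of_cover ⟨hqf, hqs, hqp⟩
  haveI : QuasiCompact Q.hom := hQq inferInstance
  haveI : Smooth Q.hom := GrpSchLib.smooth_of_quotient q
  haveI hQp : IsProper Q.hom := by
    let K := AlgebraicClosure k
    let φ : Spec (CommRingCat.of K) ⟶ Spec (CommRingCat.of k) := Spec.map (CommRingCat.ofHom (algebraMap k K))
    haveI : Smooth (Red.bc φ G).hom := inferInstanceAs (Smooth (pullback.snd G.hom φ))
    haveI : QuasiCompact (Red.bc φ G).hom := inferInstanceAs (QuasiCompact (pullback.snd G.hom φ))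
    haveI : LocallyOfFiniteType (Red.bc φ Q).hom := inferInstanceAs (LocallyOfFiniteType (pullback.snd Q.hom φ))
    haveI : QuasiCompact (Red.bc φ Q).hom := inferInstanceAs (QuasiCompact (pullback.snd Q.hom φ))
    haveI : IsProper (Red.bc φ A).hom := inferInstanceAs (IsProper (pullback.snd A.hom φ))
    obtain ⟨L, _, l, hl, hL⟩ := exists_affPart (Red.bc φ G)
    haveI := hl.hom; haveI := hl.closed; haveI := hl.smooth; haveI := hl.conn; haveI : IsAffine L.left := hl.prop
    have htheta1 : ∀ {H : Sch} [GrpObj H] {T : Over (Spec (CommRingCat.of K))},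
        DSPtsLib.theta φ (1 : T ⟶ Red.bc φ H) = 1 := by
      intro H _ T
      have h0 := DSPtsLib.theta_mul φ (1 : T ⟶ Red.bc φ H) 1
      rw [_root_.one_mul, left_eq_mul] at h0
      exact h0
    have htheta2 : ∀ {X Y : Sch} {T : Over (Spec (CommRingCat.of K))} (a : T ⟶ Red.bc φ X) (f : X ⟶ Y),
        DSPtsLib.theta φ (a ≫ (Over.pullback φ).map f) = DSPtsLib.theta φ a ≫ f := fun a f =>
      (Over.mapPullbackAdj φ).homEquiv_naturality_right_symm a f
    haveI : Mono ((Over.pullback φ).map i₀) := inferInstance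
    obtain ⟨x₀, hx₀⟩ := GrpQuotLib.exists_lift_of_range_subset i₀ (DSPtsLib.theta φ l) (by
      haveI : ConnectedSpace ((Over.map φ).obj L).left := hl.conn
      have hclo : IsClopen (Set.range i₀.left) :=
        ⟨i₀.left.isClosedEmbedding.isClosed_range, i₀.left.isOpenEmbedding.isOpen_range⟩
      refine Set.Subset.trans ((isPreconnected_range (DSPtsLib.theta φ l).left.continuous).subset_connectedComponent
        ⟨η[L].left (IsLocalRing.closedPoint K), rfl⟩) (hclo.connectedComponent_subset ?_)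
      refine ⟨η[G₀].left (IsLocalRing.closedPoint k), ?_⟩
      have h1 : η[G₀].left ≫ i₀.left = η[G].left := by rw [← Over.comp_left, IsMonHom.one_hom i₀]
      rw [← Scheme.Hom.comp_apply, h1]
      have h2 : η[L].left ≫ (DSPtsLib.theta φ l).left = φ ≫ η[G].left := by
        rw [DSPtsLib.theta_left, ← Category.assoc, ← Over.comp_left, IsMonHom.one_hom l]
        have h3 : DSPtsLib.theta φ (η[Red.bc φ G]) = toUnit _ ≫ η[G] := by
          rw [show η[Red.bc φ G] = (1 : 𝟙_ _ ⟶ Red.bc φ G) from MonObj.one_eq_one (M := Red.bc φ G), htheta1,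
            Hom.one_def]
        have h4 := congrArg CommaMorphism.left h3
        refine Eq.trans h4 ?_
        show _ ≫ η[G].left = _
        congr 1
      refine Eq.trans ?_ (Scheme.Hom.comp_apply η[L].left (DSPtsLib.theta φ l).left _)
      rw [h2, Scheme.Hom.comp_apply]
      congr 1
      exact Subsingleton.elim (α := PrimeSpectrum k) _ _)
    let l₀ : L ⟶ Red.bc φ G₀ := (Over.mapPullbackAdj φ).homEquiv L G₀ x₀
    have hl₀t : DSPtsLib.theta φ l₀ = x₀ := Equiv.symm_apply_apply _ _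
    have hl₀ : l₀ ≫ (Over.pullback φ).map i₀ = l := by
      apply (DSPtsLib.theta_bijective φ).1
      rw [htheta2, hl₀t, hx₀]
    haveI : IsMonHom l₀ := LargeNormal.isMonHom_of_mul _ fun T a b => by
      rw [← cancel_mono ((Over.pullback φ).map i₀), Category.assoc, hl₀, MonObj.mul_comp, MonObj.mul_comp,
        Category.assoc, Category.assoc, hl₀]
    have hxα : x₀ ≫ α = 1 := by
      rw [← hl₀t, ← htheta2, GrpSchLib.AffToProper.hom_eq_one (l₀ ≫ (Over.pullback φ).map α), htheta1]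
    let xN := hN.lift x₀ (toUnit _) (hxα.trans Hom.one_def)
    have hxN : xN ≫ j ≫ i₀ = DSPtsLib.theta φ l := by rw [reassoc_of% hN.lift_fst, hx₀]
    obtain ⟨z, hz⟩ := hCmax _ (DSPtsLib.theta φ l) fun T' s g => by
      let T'' : Over (Spec (CommRingCat.of K)) := Over.mk (s.left ≫ L.hom)
      let e : (Over.map φ).obj T'' ≅ T' := Over.isoMk (Iso.refl _) (by
        show 𝟙 _ ≫ T'.hom = (s.left ≫ L.hom) ≫ φ
        rw [Category.id_comp, Category.assoc]; exact (Over.w s).symm)
      let s'' : T'' ⟶ L := Over.homMk s.left rfl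
      have hs : e.inv ≫ (Over.map φ).map s'' = s := Over.OverMorphism.ext (Category.id_comp _)
      let g' : T'' ⟶ Red.bc φ G := (Over.mapPullbackAdj φ).homEquiv T'' G (e.hom ≫ g)
      have hg' : DSPtsLib.theta φ g' = e.hom ≫ g := Equiv.symm_apply_apply _ _
      obtain ⟨n, hn⟩ := hl.normal T'' g' s''
      have hinv : ∀ (a : T'' ⟶ Red.bc φ G), DSPtsLib.theta φ a⁻¹ = (DSPtsLib.theta φ a)⁻¹ := fun a =>
        eq_inv_of_mul_eq_one_left (by rw [← DSPtsLib.theta_mul, inv_mul_cancel, htheta1])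
      have h1 := congrArg (fun a => e.inv ≫ DSPtsLib.theta φ a) hn
      simp only [DSPtsLib.theta_mul, hinv, DSPtsLib.theta_comp, hg', MonObj.comp_mul, GrpObj.comp_inv,
        e.inv_hom_id_assoc, reassoc_of% hs] at h1
      exact ⟨(e.inv ≫ (Over.map φ).map n) ≫ xN, by rw [Category.assoc, hxN, h1, Category.assoc]⟩
    have hqK : l ≫ (Over.pullback φ).map q = 1 := by
      apply (DSPtsLib.theta_bijective φ).1
      rw [htheta2, htheta1, ← hz, Category.assoc, hk.w, ← Category.assoc, comp_toUnit, Hom.one_def]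
    haveI : Surjective ((Over.pullback φ).map q).left :=
      (MorphismProperty.baseChange_map φ q ‹Surjective q.left› :)
    haveI : IsProper (Red.bc φ Q).hom := isProper_of_kills l hL ((Over.pullback φ).map q) hqK
    haveI := EtFound.fpqc_isProper.{u}
    haveI : Surjective φ := ⟨fun x => ⟨IsLocalRing.closedPoint K, Subsingleton.elim _ _⟩⟩
    haveI : Flat φ := (HasRingHomProperty.Spec_iff (P := @Flat)).2 (RingHom.flat_algebraMap_iff.mpr inferInstance)
    exact MorphismProperty.of_pullback_snd_of_descendsAlong (P := @IsProper)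
      (Q := (@Surjective ⊓ @Flat ⊓ @QuasiCompact : MorphismProperty Scheme.{u})) (g := φ)
      ⟨⟨‹Surjective φ›, ‹Flat φ›⟩, inferInstance⟩ (inferInstanceAs (IsProper (Red.bc φ Q).hom))
  haveI : Mono (j ≫ i₀) := inferInstance
  let s := hk.lift (j ≫ i₀) (toUnit N) ((hkillQ Q q).trans Hom.one_def)
  have hs : s ≫ c = j ≫ i₀ := hk.lift_fst _ _ _
  refine ⟨fun T g n => ?_, Q, inferInstance, q, hq, hqs, hqf, ?_, hQp⟩
  · obtain ⟨n', hn'⟩ := hcn T g (n ≫ s)
    exact ⟨n' ≫ t, by rw [Category.assoc n' t, ht, ← hn', Category.assoc n s, hs]⟩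
  · let e : C ≅ N := ⟨t, s, by rw [← cancel_mono c, Category.assoc, hs, ht, Category.id_comp],
      by rw [← cancel_mono (j ≫ i₀), Category.assoc, ht, hs, Category.id_comp]⟩
    exact IsPullback.of_iso hk e (Iso.refl _) (Iso.refl _) (Iso.refl _) (by simp [e, ht]) (by simp)
      (by simp) (by simp)

end Groth.Agent.Chevalley.BC
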